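import Groth.Agent.SymSq.K980.Snap
import Groth.Agent.HypSq.K980.Inter
import Groth.Agent.ZeroCyc.K754.QuotProj
import Groth.Agent.S2908
import Groth.Agent.S13596

/-!
# The symmetric square of a curve

The quotient data of `C × C ⟶ Sym² C`, and Riemann-Roch on `Sym² C`.
-/

set_option autoImplicit false
universe u

open CategoryTheory CategoryTheory.Limits AlgebraicGeometry Opposite TopologicalSpace

namespace K980.SymData

open Groth.Agent Groth.Agent.Fdesc.LocGen Groth.Agent.Grpsch.PicGrp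
open K980.DCover K980.Graph K980.CokerQ K980.InvQuot K980.PicNum K980.QuotSeq K980.Snap K980.BoxNum K980.Main

variable (k : Type u) [Field k] {C : Scheme.{u}} [C.Over (Spec (CommRingCat.of k))]

local notation "XX" => pullback (C ↘ Spec (CommRingCat.of k)) (C ↘ Spec (CommRingCat.of k))
local notation "p₁" => pullback.fst (C ↘ Spec (CommRingCat.of k)) (C ↘ Spec (CommRingCat.of k))
local notation "p₂" => pullback.snd (C ↘ Spec (CommRingCat.of k)) (C ↘ Spec (CommRingCat.of k))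

/-- Two is invertible on a scheme over `k`. -/
theorem isUnit_two {k : Type u} [Field k] (h2 : (2 : k) ≠ 0) {S : Scheme.{u}} (q : S ⟶ Spec (CommRingCat.of k))
    (V : S.Opens) : IsUnit (2 : Γ(S, V)) := by
  let φ : k →+* Γ(S, V) := (pl q (U := ⊤) (V := V) (fun _ _ => trivial)).comp
    (Scheme.ΓSpecIso (CommRingCat.of k)).inv.hom
  have h := (IsUnit.mk0 (2 : k) h2).map φ
  rwa [map_ofNat] at h

theorem perm_fin_two (σ : Equiv.Perm (Fin 2)) : σ = 1 ∨ σ = Equiv.swap 0 1 := by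
  revert σ
  decide

/-- The swap of the two factors. -/
noncomputable abbrev sw : XX ⟶ XX :=
  (pullbackSymmetry (C ↘ Spec (CommRingCat.of k)) (C ↘ Spec (CommRingCat.of k))).hom

theorem sw_fst : sw k (C := C) ≫ p₁ = p₂ := pullbackSymmetry_hom_comp_fst _ _

theorem sw_snd : sw k (C := C) ≫ p₂ = p₁ := pullbackSymmetry_hom_comp_snd _ _

section

variable (ρ : ULift.{u} (Equiv.Perm (Fin 2)) →* Aut (pullback (C ↘ Spec (CommRingCat.of k)) (C ↘ Spec (CommRingCat.of k))))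
  (hρ : (ρ (ULift.up (Equiv.swap 0 1))).hom =
    (pullbackSymmetry (C ↘ Spec (CommRingCat.of k)) (C ↘ Spec (CommRingCat.of k))).hom)
  {Sq : Scheme.{u}} {π : (pullback (C ↘ Spec (CommRingCat.of k)) (C ↘ Spec (CommRingCat.of k))) ⟶ Sq}
  (hπ : SGA1.IsQuot ρ π)

include hρ in
theorem rho_eq (g : ULift.{u} (Equiv.Perm (Fin 2))) : (ρ g).hom = 𝟙 _ ∨ (ρ g).hom = sw k (C := C) := by
  obtain ⟨g⟩ := g
  rcases perm_fin_two g with rfl | rfl
  · left
    have : (ULift.up (1 : Equiv.Perm (Fin 2)) : ULift.{u} (Equiv.Perm (Fin 2))) = 1 := rfl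
    rw [this, map_one]
    rfl
  · exact Or.inr hρ

include hρ in
theorem rho_fst (g : ULift.{u} (Equiv.Perm (Fin 2))) :
    (ρ g).hom ≫ p₁ ≫ (C ↘ Spec (CommRingCat.of k)) = p₁ ≫ (C ↘ Spec (CommRingCat.of k)) := by
  rcases rho_eq k ρ hρ g with h | h
  · rw [h, Category.id_comp]
  · rw [h, ← Category.assoc, sw_fst, pullback.condition]

variable (q : Sq ⟶ Spec (CommRingCat.of k)) (hq : π ≫ q = pullback.fst (C ↘ Spec (CommRingCat.of k)) (C ↘ Spec (CommRingCat.of k)) ≫ (C ↘ Spec (CommRingCat.of k)))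

include hρ hπ hq in
theorem qdata (h2 : (2 : k) ≠ 0) [IsSeparated (C ↘ Spec (CommRingCat.of k))]
    (hD : PicF.IsInvertible (ClSub.idealMod (gr k (𝟙 C) (Category.id_comp _)).ker)) :
    QData π (sw k (C := C)) (gr k (𝟙 C) (Category.id_comp _)) := by
  have hτπ : sw k (C := C) ≫ π = π := by rw [sw, ← hρ]; exact hπ.inv _
  have hint := Groth.Agent.S13596.result ρ π hπ
  obtain ⟨hs, ho, -⟩ := Groth.Agent.S2908.result ρ π hπ
  refine ⟨hτπ, ?_, ?_, ?_, ?_, ?_, hs, hπ.affine, inferInstance, hD, hπ.injective, ?_, isUnit_two h2 q⟩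
  · apply pullback.hom_ext
    · rw [Category.assoc, sw_fst, sw_snd, Category.id_comp]
    · rw [Category.assoc, sw_snd, sw_fst, Category.id_comp]
  · apply pullback.hom_ext
    · rw [Category.assoc, sw_fst, gr_fst, gr_snd]
    · rw [Category.assoc, sw_snd, gr_fst, gr_snd]
  · intro T t ht
    refine ⟨t ≫ p₁, ?_⟩
    apply pullback.hom_ext
    · rw [Category.assoc, gr_fst, Category.comp_id]
    · rw [Category.assoc, gr_snd, Category.comp_id]
      have := congr($ht ≫ p₂)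
      rw [Category.assoc, sw_snd] at this
      exact this
  · intro x x' hx
    obtain ⟨g, hg⟩ := (ho x x').1 hx
    rcases rho_eq k ρ hρ g with h | h
    · left; rw [← hg, h]; rfl
    · right; rw [← hg, h]
  · exact π.isClosedMap
  · intro V x hx
    obtain ⟨a, ha⟩ := (hπ.range_iff V x).2 (fun g => by
      have h1 : ∀ (f : XX ⟶ XX) (e : π ⁻¹ᵁ V ≤ f ⁻¹ᵁ (π ⁻¹ᵁ V)), (f = 𝟙 _ ∨ f = sw k (C := C)) →
          (f.appLE (π ⁻¹ᵁ V) (π ⁻¹ᵁ V) e).hom x = x := by
        rintro f e (rfl | rfl)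
        · exact (pl_id e x).trans (ores_refl x)
        · exact hx
      exact h1 _ _ (rho_eq k ρ hρ g))
    exact ⟨a, ha⟩

attribute [local instance] ov

include hρ hπ hq in
theorem isFinite_pi [IsProper (C ↘ Spec (CommRingCat.of k))] : IsFinite π :=
  (Groth.Agent.S2909.result ρ π hπ _ q hq (rho_fst k ρ hρ)).2.2.1
    (by have : IsProper (p₁ ≫ (C ↘ Spec (CommRingCat.of k))) := isProper_ov k (C := C)
        infer_instance)

include hρ hπ hq in
theorem isProper_q [IsProper (C ↘ Spec (CommRingCat.of k))] : IsProper q := by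
  have : IsProper (p₁ ≫ (C ↘ Spec (CommRingCat.of k))) := isProper_ov k (C := C)
  exact K754.QuotProj.isProper_of_isQuot hπ hq (rho_fst k ρ hρ)

end

section Hyp

attribute [local instance] ov

variable (κ : C ⟶ CohB1.ProjSpace 1 k) [IsAlgClosed k] (h2 : (2 : k) ≠ 0)
  [IsProper (C ↘ Spec (CommRingCat.of k))] [IsIntegral C] (hdim : topologicalKrullDim C ≤ 1)
  (g : ℕ) (hgen : Curv2.genus k C = g)
  (hκ : κ ≫ CohB1.ProjSpace.toSpec 1 k = (C ↘ Spec (CommRingCat.of k)))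
  [IsFinite κ]
  {σ : C ⟶ C} (h : σ ≫ κ = κ) (hσ : σ ≫ (C ↘ Spec (CommRingCat.of k)) = C ↘ Spec (CommRingCat.of k))
  (hσ1 : σ ≠ 𝟙 C)
  (y : ∀ i : Fin 2, Γ(C, κ ⁻¹ᵁ CurvesC.ProjSpaceBasic.Dp 1 k i))
  (hy : ∀ (i : Fin 2) (V : (CohB1.ProjSpace 1 k).Opens) (hV : V ≤ CurvesC.ProjSpaceBasic.Dp 1 k i),
    Function.Bijective (DCover.pr κ (y i) V hV))
  {N : (pullback (C ↘ Spec (CommRingCat.of k)) (C ↘ Spec (CommRingCat.of k))).Modules} (hN : PicF.IsInvertible N)
  (hNinv : ClSub.IsInverseOf N (ClSub.idealMod (gr k σ hσ).ker))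
  (ρ : ULift.{u} (Equiv.Perm (Fin 2)) →* Aut (pullback (C ↘ Spec (CommRingCat.of k)) (C ↘ Spec (CommRingCat.of k))))
  (hρ : (ρ (ULift.up (Equiv.swap 0 1))).hom =
    (pullbackSymmetry (C ↘ Spec (CommRingCat.of k)) (C ↘ Spec (CommRingCat.of k))).hom)
  {Sq : Scheme.{u}} {π : (pullback (C ↘ Spec (CommRingCat.of k)) (C ↘ Spec (CommRingCat.of k))) ⟶ Sq}
  (hπ : SGA1.IsQuot ρ π) (q : Sq ⟶ Spec (CommRingCat.of k)) (hq : π ≫ q = pullback.fst (C ↘ Spec (CommRingCat.of k)) (C ↘ Spec (CommRingCat.of k)) ≫ (C ↘ Spec (CommRingCat.of k)))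

include h2 hdim hgen hκ h hσ1 hy hN hNinv hρ hπ hq in
/-- Riemann-Roch on the symmetric square. -/
theorem chi_sym (c : Pic Sq) : letI : Sq.Over (Spec (CommRingCat.of k)) := ⟨q⟩
    4 * chi k c = 2 * chi k (pull π c) - 2 * ((g : ℤ) - 1) +
      NumC.dg k (pull (gr k (𝟙 C) (Category.id_comp _)) (pull π c)) := by
  obtain ⟨hD, hS, e1, e2, e3, e4, e5, e6⟩ := facts k κ g hgen hκ h hσ hσ1 y hy hN hNinv
  have H := qdata k ρ hρ hπ q hq h2 hD
  let iS : Sq.Over (Spec (CommRingCat.of k)) := ⟨q⟩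
  have hfin : IsFinite π := isFinite_pi k ρ hρ hπ q hq
  have hp1 : IsProper (Sq ↘ Spec (CommRingCat.of k)) := isProper_q k ρ hρ hπ q hq
  have hp2 := isProper_ov k (C := C)
  have h1 := chi_quot H k hq (Num.gr_over k (Category.id_comp _)) hdim c
  rw [e6, NumC.dg_ell k g hgen κ hκ y hy hdim, NumC.chi_structure k g hgen κ hκ y hy] at h1
  linarith

include h2 hdim hgen hκ h hσ1 hy hN hNinv hρ hπ hq in
/-- The intersection form. -/
theorem int_sym (c d : Pic Sq) : letI : Sq.Over (Spec (CommRingCat.of k)) := ⟨q⟩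
    2 * (chi k (1 : Pic Sq) - chi k c - chi k d + chi k (c * d)) =
      chi k (1 : Pic XX) - chi k (pull π c) - chi k (pull π d) + chi k (pull π c * pull π d) := by
  obtain ⟨hD, hS, e1, e2, e3, e4, e5, e6⟩ := facts k κ g hgen hκ h hσ hσ1 y hy hN hNinv
  have H := qdata k ρ hρ hπ q hq h2 hD
  let iS : Sq.Over (Spec (CommRingCat.of k)) := ⟨q⟩
  have hfin : IsFinite π := isFinite_pi k ρ hρ hπ q hq
  have hp1 : IsProper (Sq ↘ Spec (CommRingCat.of k)) := isProper_q k ρ hρ hπ q hq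
  have hp2 := isProper_ov k (C := C)
  exact two_mul_int H k hq (Num.gr_over k (Category.id_comp _)) hdim c d

include h2 hgen hκ h hσ1 hy hN hNinv hρ hπ hq in
theorem van_sym (c : Pic Sq) (n : ℕ) (hv : Van (pull π c) n) : Van c n := by
  obtain ⟨hD, hS, e1, e2, e3, e4, e5, e6⟩ := facts k κ g hgen hκ h hσ hσ1 y hy hN hNinv
  have H := qdata k ρ hρ hπ q hq h2 hD
  let iS : Sq.Over (Spec (CommRingCat.of k)) := ⟨q⟩
  exact van_left H k hq c n hv

include h2 hdim hgen hκ h hσ1 hy hN hNinv hρ hπ hq in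
/-- S19087 -/
theorem chi_sym_box (c : Pic Sq) (a : Pic C) (m : ℤ) (ha : NumC.dg k a = m) (r : ℕ)
    (hc : pull π c = bx k a a * mk N hN ^ r) : letI : Sq.Over (Spec (CommRingCat.of k)) := ⟨q⟩
    2 * chi k c = (m - ((g : ℤ) - 1)) * (m - ((g : ℤ) - 1) + 1) + 2 * (r : ℤ) * (m + 1) -
      ((g : ℤ) - 1) * r * (r + 1) := by
  have h1 := chi_sym k κ h2 hdim g hgen hκ h hσ hσ1 y hy hN hNinv ρ hρ hπ q hq c
  rw [hc, Inter.chi_box_n k κ hdim g hgen hκ h hσ hσ1 y hy hN hNinv, map_mul, map_pow, pull_gr_bx,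
    Inter.pull_diag_n k κ g hgen hκ h hσ hσ1 y hy hN hNinv, pull_id, NumC.dg_mul k hdim, NumC.dg_mul k hdim,
    NumC.dg_pow k hdim, NumC.dg_ell k g hgen κ hκ y hy hdim, ha] at h1
  linarith

/-- The class of the pullback. -/
theorem pull_mk_eq {X S : Scheme.{u}} (π : X ⟶ S) {M : S.Modules} (hM : PicF.IsInvertible M) {L : X.Modules}
    (hL : PicF.IsInvertible L) (e : Nonempty ((Scheme.Modules.pullback π).obj M ≅ L)) :
    pull π (mk M hM) = mk L hL := by
  rw [pull_mk]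
  exact (mk_eq_iff _ _).2 e

include h2 hdim hgen hκ h hσ1 hy hN hNinv hρ hπ hq in
/-- Sections when the higher cohomology of the pullback vanishes. -/
theorem hd_zero_sym (c : Pic Sq) (hv : ∀ i, 1 ≤ i → Van c i) (m : ℤ) (r : ℕ)
    (hc : pull π c = Setup.fc k κ m * mk N hN ^ r) : letI : Sq.Over (Spec (CommRingCat.of k)) := ⟨q⟩
    2 * (hd k c 0 : ℤ) = (2 * m - ((g : ℤ) - 1) + 1) * (2 * m - ((g : ℤ) - 1)) + 2 * (r : ℤ) * (2 * m + 1) -
      ((g : ℤ) - 1) * r * (r + 1) := by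
  let iS : Sq.Over (Spec (CommRingCat.of k)) := ⟨q⟩
  have h1 := chi_sym_box k κ h2 hdim g hgen hκ h hσ hσ1 y hy hN hNinv ρ hρ hπ q hq c (NumC.ell k κ m) (2 * m)
    (NumC.dg_ell k g hgen κ hκ y hy hdim m) r hc
  have h3 := NumC.euler_eq_range k c 1 hv
  rw [Finset.sum_range_one, pow_zero, one_mul] at h3
  rw [← h3]
  linarith

end Hyp

end K980.SymData
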