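import Groth.Agent.HypSq.K980.Invol
import Groth.Agent.S2925
import Groth.Agent.S2908
import Groth.Agent.S0021

/-!
# A double cover of the projective line is the quotient by its involution

* `isQuot_kappa`: `κ` is the quotient of `C` by `σ`.
* `exists_factor`: `σ`-invariant morphisms factor through `κ`;
* `isAffineHom_of_comp`: and the factorization of an affine morphism is affine.
-/

set_option autoImplicit false
universe u

open CategoryTheory CategoryTheory.Limits AlgebraicGeometry Opposite TopologicalSpace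

namespace K980.Kap

open Groth.Agent Groth.Agent.Fdesc.LocGen Groth.Agent.CurvesC.ProjSpaceBasic
open K980.P1Chart K980.DCover K980.Graph K980.Double K980.CokerQ K980.Invol

variable (k : Type u) [Field k] (h2 : (2 : k) ≠ 0) {C : Scheme.{u}} (κ : C ⟶ CohB1.ProjSpace 1 k)
  [C.Over (Spec (CommRingCat.of k))]
  (hκ : κ ≫ CohB1.ProjSpace.toSpec 1 k = (C ↘ Spec (CommRingCat.of k)))
  [IsIntegral C] [IsFinite κ] [IsSeparated (C ↘ Spec (CommRingCat.of k))]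
  {σ : C ⟶ C} (h : σ ≫ κ = κ)
  (hσ1 : σ ≠ 𝟙 C)
  (y : ∀ i : Fin 2, Γ(C, κ ⁻¹ᵁ Dp 1 k i))
  (hy : ∀ (i : Fin 2) (V : (CohB1.ProjSpace 1 k).Opens) (hV : V ≤ Dp 1 k i), Function.Bijective (pr κ (y i) V hV))

/-- Two is invertible on a scheme over `k`. -/
theorem isUnit_two {k : Type u} [Field k] (h2 : (2 : k) ≠ 0) {S : Scheme.{u}} (q : S ⟶ Spec (CommRingCat.of k))
    (V : S.Opens) : IsUnit (2 : Γ(S, V)) := by
  let φ : k →+* Γ(S, V) := (pl q (U := ⊤) (V := V) (fun _ _ => trivial)).comp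
    (Scheme.ΓSpecIso (CommRingCat.of k)).inv.hom
  have h := (IsUnit.mk0 (2 : k) h2).map φ
  rwa [map_ofNat] at h

include hκ hσ1 hy h2 in
/-- Invariant functions come from the line, over a chart. -/
theorem exists_fa_of_le (i : Fin 2) {V : (CohB1.ProjSpace 1 k).Opens} (hV : V ≤ Dp 1 k i) (x : Γ(C, κ ⁻¹ᵁ V))
    (hx : tv k κ h V x = x) : ∃ a, fa κ V a = x := by
  obtain ⟨c, n, hc⟩ := exists_quad k κ i (y i) (hy i _ le_rfl)
  have h1 := ts_y_eq k κ i (y i) (hy i _ le_rfl) h (ts_ne k κ i (y i) hκ (hy i _ le_rfl) h hσ1) hc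
  obtain ⟨p, rfl⟩ := (hy i V hV).2 x
  have h3 : tv k κ h V (ores (κ.preimage_mono hV) (y i)) = fa κ V (ores hV c) - ores (κ.preimage_mono hV) (y i) := by
    rw [← ores_tv k κ h hV, ← ts_eq_tv, h1, map_sub, ores_fa]
  rw [pr, map_add, map_mul, tv_fa, tv_fa, h3] at hx
  have h4 : pr κ (y i) V hV (p.2 * ores hV c, -(2 * p.2)) = pr κ (y i) V hV (0, 0) := by
    simp only [pr, map_mul, map_neg, map_zero, map_ofNat]
    linear_combination hx
  have h5 : -(2 * p.2) = 0 := congrArg Prod.snd ((hy i V hV).1 h4)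
  have h6 : p.2 = 0 := ((isUnit_two h2 (CohB1.ProjSpace.toSpec 1 k) V).mul_right_eq_zero).1 (neg_eq_zero.1 h5)
  refine ⟨p.1, ?_⟩
  rw [pr, h6, map_zero, zero_mul, add_zero]

include hκ hσ1 hy h2 in
theorem exists_fa_of_tv {V : (CohB1.ProjSpace 1 k).Opens} (x : Γ(C, κ ⁻¹ᵁ V))
    (hx : tv k κ h V x = x) : ∃ a, fa κ V a = x := by
  have hcov : V ≤ ⨆ i, V ⊓ Dp 1 k i := by rw [← inf_iSup_eq, iSup_Dp, inf_top_eq]
  have hloc : ∀ i, ∃ a : Γ(CohB1.ProjSpace 1 k, V ⊓ Dp 1 k i),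
      fa κ (V ⊓ Dp 1 k i) a = ores (κ.preimage_mono inf_le_left) x := fun i =>
    exists_fa_of_le k h2 κ hκ h hσ1 y hy i inf_le_right _ (by
      rw [← ores_tv k κ h (inf_le_left : V ⊓ Dp 1 k i ≤ V), hx])
  choose a ha using hloc
  have hinj := fa_injective κ (fun i => Dp 1 k i) (iSup_Dp 1 k) y hy
  obtain ⟨b, hb⟩ := ores_glue (fun i => V ⊓ Dp 1 k i) (fun i => inf_le_left) hcov a (fun i j => by
    apply hinj
    rw [← ores_fa, ← ores_fa, ha, ha, ores_ores, ores_ores])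
  refine ⟨b, ?_⟩
  have hcov' : κ ⁻¹ᵁ V ≤ ⨆ i, κ ⁻¹ᵁ (V ⊓ Dp 1 k i) := by
    rw [← Scheme.Hom.preimage_iSup]
    exact κ.preimage_mono hcov
  refine ores_ext (fun i => κ ⁻¹ᵁ (V ⊓ Dp 1 k i)) (fun i => κ.preimage_mono inf_le_left) hcov' fun i => ?_
  rw [ores_fa κ (inf_le_left : V ⊓ Dp 1 k i ≤ V), hb, ha]

/-- The automorphism. -/
noncomputable def sAut : Aut C := ⟨σ, σ, sigma_sq k κ hκ h hσ1 y hy, sigma_sq k κ hκ h hσ1 y hy⟩

theorem sAut_sq : sAut k κ hκ h hσ1 y hy * sAut k κ hκ h hσ1 y hy = 1 := by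
  apply Iso.ext
  exact sigma_sq k κ hκ h hσ1 y hy

theorem mem_zpowers (g : Subgroup.zpowers (sAut k κ hκ h hσ1 y hy)) :
    (g : Aut C).hom = 𝟙 C ∨ (g : Aut C).hom = σ := by
  obtain ⟨_, n, rfl⟩ := g
  rcases Int.even_or_odd n with ⟨m, rfl⟩ | ⟨m, rfl⟩
  · left
    have : sAut k κ hκ h hσ1 y hy ^ (m + m) = 1 := by
      rw [← two_mul, zpow_mul, zpow_two, sAut_sq, one_zpow]
    exact congrArg Iso.hom this
  · right
    have : sAut k κ hκ h hσ1 y hy ^ (2 * m + 1) = sAut k κ hκ h hσ1 y hy := by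
      rw [zpow_add, zpow_mul, zpow_two, sAut_sq, one_zpow, one_mul, zpow_one]
    exact congrArg Iso.hom this

instance : Finite (Subgroup.zpowers (sAut k κ hκ h hσ1 y hy)) := by
  have : IsOfFinOrder (sAut k κ hκ h hσ1 y hy) :=
    isOfFinOrder_iff_pow_eq_one.2 ⟨2, by norm_num, by rw [pow_two, sAut_sq]⟩
  exact this.finite_zpowers

include h2 in
theorem isQuot_kappa : SGA1.IsQuot (Subgroup.zpowers (sAut k κ hκ h hσ1 y hy)).subtype κ := by
  have hinv : ∀ g : Subgroup.zpowers (sAut k κ hκ h hσ1 y hy),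
      ((Subgroup.zpowers (sAut k κ hκ h hσ1 y hy)).subtype g).hom ≫ κ = κ := by
    intro g
    rcases mem_zpowers k κ hκ h hσ1 y hy g with h1 | h1
    · change (g : Aut C).hom ≫ κ = κ
      rw [h1, Category.id_comp]
    · change (g : Aut C).hom ≫ κ = κ
      rw [h1, h]
  refine ⟨inferInstance, hinv, fun V => fa_injective κ (fun i => Dp 1 k i) (iSup_Dp 1 k) y hy V, fun V x => ?_⟩
  have key : ∀ (f : C ⟶ C) (e : κ ⁻¹ᵁ V ≤ f ⁻¹ᵁ (κ ⁻¹ᵁ V)) (z : Γ(C, κ ⁻¹ᵁ V)), (f = 𝟙 C ∨ f = σ) →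
      tv k κ h V z = z → (f.appLE (κ ⁻¹ᵁ V) (κ ⁻¹ᵁ V) e).hom z = z := by
    rintro f e z (rfl | rfl) hz
    · exact (pl_id e z).trans (ores_refl z)
    · exact hz
  constructor
  · rintro ⟨a, rfl⟩ g
    exact key _ _ _ (mem_zpowers k κ hκ h hσ1 y hy g) (tv_fa k κ h V a)
  · intro hx
    have h3 := hx ⟨sAut k κ hκ h hσ1 y hy, Subgroup.mem_zpowers _⟩
    obtain ⟨a, ha⟩ := exists_fa_of_tv k h2 κ hκ h hσ1 y hy x h3
    exact ⟨a, ha⟩

include h2 hκ h hσ1 hy in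
theorem surjective_kappa : Surjective κ :=
  ⟨(Groth.Agent.S2908.result _ κ (isQuot_kappa k h2 κ hκ h hσ1 y hy)).1⟩

include h2 hκ h hσ1 hy in
/-- Invariant morphisms factor. -/
theorem exists_factor {S : Scheme.{u}} (f : C ⟶ S) (hf : σ ≫ f = f) : ∃ j : CohB1.ProjSpace 1 k ⟶ S, κ ≫ j = f := by
  obtain ⟨j, hj, -⟩ := Groth.Agent.S2925.result _ κ (isQuot_kappa k h2 κ hκ h hσ1 y hy) S f (fun g => by
    rcases mem_zpowers k κ hκ h hσ1 y hy g with h1 | h1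
    · change (g : Aut C).hom ≫ f = f
      rw [h1, Category.id_comp]
    · change (g : Aut C).hom ≫ f = f
      rw [h1, hf])
  exact ⟨j, hj⟩

include h2 hκ h hσ1 hy in
theorem hom_ext_kappa {S : Scheme.{u}} {a b : CohB1.ProjSpace 1 k ⟶ S} (hab : κ ≫ a = κ ≫ b) : a = b := by
  obtain ⟨j, -, hj⟩ := Groth.Agent.S2925.result _ κ (isQuot_kappa k h2 κ hκ h hσ1 y hy) S (κ ≫ a) (fun g => by
    rcases mem_zpowers k κ hκ h hσ1 y hy g with h1 | h1
    · change (g : Aut C).hom ≫ κ ≫ a = κ ≫ a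
      rw [h1, Category.id_comp]
    · change (g : Aut C).hom ≫ κ ≫ a = κ ≫ a
      rw [h1, ← Category.assoc, h])
  exact (hj a rfl).trans (hj b hab.symm).symm

/-- Descent of affineness along a finite surjective morphism. -/
theorem isAffineHom_of_comp {X Y S : Scheme.{u}} [IsNoetherian Y] (f : X ⟶ Y) [IsFinite f] [Surjective f] (j : Y ⟶ S)
    [IsAffineHom (f ≫ j)] : IsAffineHom j := by
  refine ⟨fun V hV => ?_⟩
  have h1 : IsAffineOpen (f ⁻¹ᵁ (j ⁻¹ᵁ V)) := hV.preimage (f ≫ j)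
  have h2 : IsAffine (f ⁻¹ᵁ (j ⁻¹ᵁ V)).toScheme := h1
  have h5 : CompactSpace (j ⁻¹ᵁ V).toScheme := isCompact_iff_compactSpace.1 (NoetherianSpace.isCompact _)
  have h3 : IsNoetherian (j ⁻¹ᵁ V).toScheme := {}
  have h4 : Surjective (f ∣_ (j ⁻¹ᵁ V)) := IsZariskiLocalAtTarget.restrict (P := @Surjective) inferInstance _
  exact Groth.Agent.S0021.result (f ∣_ (j ⁻¹ᵁ V))

end K980.Kap
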