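import Groth.Agent.SymSq.K980.QuotSeq
import Groth.Agent.Ega2.TensPow

/-!
# The unit `M ⟶ f_* f^* M` on cohomology

* `toPB_eq`: the unit in terms of `M ⊗ O ⟶ M ⊗ f_* O`.
* `un_comp`: the unit of a composite.
* `injective_un_pi`: it is injective on cohomology for the quotient by an involution;
* `injective_push_un`: `π_* F ⟶ π_* i_* i^* F` is injective on `H^n` if `H^n(F ⊗ I) = 0`.
-/

set_option autoImplicit false
universe u

open CategoryTheory CategoryTheory.Limits AlgebraicGeometry Opposite TopologicalSpace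

namespace K980.UnitMap

open Groth.Agent Groth.Agent.Fdesc.LocGen
open K980.DCover K980.Graph K980.CokerQ K980.InvQuot K980.PicNum K980.QuotSeq
open Groth.Agent.Grpsch.PicGrp
open Groth.Agent.VarietyA.EulerLES Groth.Agent.VarietyB.TensCoh Groth.Agent.VarietyB.ProjForm
open Groth.Agent.VarietyB.RestrSeq

variable {X Y Z : Scheme.{u}}

/-- The unit. -/
noncomputable def un (f : X ⟶ Y) (M : Y.Modules) :
    M ⟶ (Scheme.Modules.pushforward f).obj ((Scheme.Modules.pullback f).obj M) :=
  (Scheme.Modules.pullbackPushforwardAdjunction f).unit.app M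

theorem un_app (f : X ⟶ Y) (M : Y.Modules) {U : Y.Opens} (m : Γ(M, U)) : (un f M).app U m = pullSec f m := rfl

/-- The unit in terms of tensor products. -/
noncomputable def toPB (f : X ⟶ Y) {E : Y.Modules} (hE : HasBases E) :
    E ⟶ (Scheme.Modules.pushforward f).obj ((Scheme.Modules.pullback f).obj E) :=
  (Ega2.Tens.runit E).inv ≫ tensMap E (ClSub.unitToPush f) ≫ (projIsoUnit f hE).hom

theorem toPB_app (f : X ⟶ Y) {E : Y.Modules} (hE : HasBases E) {U : Y.Opens} (m : Γ(E, U)) :
    (toPB f hE).app U m = pullSec f m := by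
  have h1 : (Ega2.Tens.runit E).inv.app U m = Groth.Agent.VarietyB.TensLoc.tmul m (one U) := Ega2.Tens.runit_inv_app m
  have h2 : (tensMap E (ClSub.unitToPush f)).app U (Groth.Agent.VarietyB.TensLoc.tmul m (one U)) =
      Groth.Agent.VarietyB.TensLoc.tmul m ((ClSub.unitToPush f).app U (one U)) :=
    Groth.Agent.VarietyB.TensLoc.tensorBi_map_app_tmul E (ClSub.unitToPush f) m (one U)
  have h3 : (ClSub.unitToPush f).app U (one U) =
      (show Γ((Scheme.Modules.pushforward f).obj (Coh.structureModule X), U) from one (f ⁻¹ᵁ U)) := by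
    change f.app U (1 : Γ(Y, U)) = (1 : Γ(X, f ⁻¹ᵁ U))
    exact map_one (f.app U).hom
  have h4 := projMor_tmul f E (Coh.structureModule X) m (one (f ⁻¹ᵁ U))
  have h5 : (Ega2.Tens.runit ((Scheme.Modules.pullback f).obj E)).hom.app (f ⁻¹ᵁ U)
      (Groth.Agent.VarietyB.TensLoc.tmul (pullSec f m) (one (f ⁻¹ᵁ U))) = pullSec f m :=
    (Ega2.Tens.runit_hom_tmul (1 : Γ(X, f ⁻¹ᵁ U)) (pullSec f m)).trans (one_smul _ _)
  change (Ega2.Tens.runit ((Scheme.Modules.pullback f).obj E)).hom.app (f ⁻¹ᵁ U)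
    ((projMor f E (Coh.structureModule X)).app U ((tensMap E (ClSub.unitToPush f)).app U
      ((Ega2.Tens.runit E).inv.app U m))) = _
  rw [h1, h2, h3]
  refine Eq.trans ?_ h5
  exact congrArg ((Ega2.Tens.runit ((Scheme.Modules.pullback f).obj E)).hom.app (f ⁻¹ᵁ U)) h4

theorem toPB_eq (f : X ⟶ Y) {E : Y.Modules} (hE : HasBases E) : toPB f hE = un f E := by
  ext U m
  exact toPB_app f hE m

/-- The unit of a composite. -/
theorem un_comp (f : X ⟶ Y) (g : Y ⟶ Z) (M : Z.Modules) :
    un (f ≫ g) M = un g M ≫ (Scheme.Modules.pushforward g).map (un f ((Scheme.Modules.pullback g).obj M)) ≫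
      (Scheme.Modules.pushforward g).map ((Scheme.Modules.pushforward f).map
        ((Scheme.Modules.pullbackComp f g).hom.app M)) ≫
      (Scheme.Modules.pushforwardComp f g).hom.app _ := by
  ext U m
  exact (pullSec_comp' f g m).symm

section Coho

theorem mapΓ_comp_apply {M N P : X.Modules} (f : M ⟶ N) (g : N ⟶ P) (n : ℕ) (x : Coh.HH X M n) :
    mapΓ (f ≫ g) n x = mapΓ g n (mapΓ f n x) := by
  rw [mapΓ_comp]; rfl

theorem mapΓ_bijective_of_isIso {M N : X.Modules} (f : M ⟶ N) [IsIso f] (n : ℕ) :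
    Function.Bijective (mapΓ f n) := by
  refine Function.bijective_iff_has_inverse.2 ⟨mapΓ (inv f) n, fun x => ?_, fun x => ?_⟩
  · rw [← mapΓ_comp_apply, IsIso.hom_inv_id, mapΓ_id]; rfl
  · rw [← mapΓ_comp_apply, IsIso.inv_hom_id, mapΓ_id]; rfl

/-- The unit of a composite on cohomology. -/
theorem injective_un_comp_iff (f : X ⟶ Y) (g : Y ⟶ Z) (M : Z.Modules) (n : ℕ) :
    Function.Injective (mapΓ (un (f ≫ g) M) n) ↔
      Function.Injective (mapΓ ((Scheme.Modules.pushforward g).map (un f ((Scheme.Modules.pullback g).obj M))) n ∘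
        mapΓ (un g M) n) := by
  have h1 : (mapΓ (un (f ≫ g) M) n : Coh.HH Z M n → _) =
      mapΓ ((Scheme.Modules.pushforward g).map ((Scheme.Modules.pushforward f).map
        ((Scheme.Modules.pullbackComp f g).hom.app M)) ≫ (Scheme.Modules.pushforwardComp f g).hom.app _) n ∘
      (mapΓ ((Scheme.Modules.pushforward g).map (un f ((Scheme.Modules.pullback g).obj M))) n ∘
        mapΓ (un g M) n) := by
    funext x
    rw [un_comp, mapΓ_comp_apply, mapΓ_comp_apply]
    rfl
  rw [h1]
  exact (mapΓ_bijective_of_isIso _ n).1.of_comp_iff _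

variable {π : X ⟶ Y} {τ : X ⟶ X} {i : Z ⟶ X} (H : QData π τ i)

include H in
/-- The unit is a split injection. -/
theorem exists_ret_un {E : Y.Modules} (hE : HasBases E) : ∃ r, un π E ≫ r = 𝟙 E := by
  refine ⟨(projIsoUnit π hE).inv ≫ tensMap E (ret H) ≫ (Ega2.Tens.runit E).hom, ?_⟩
  rw [← toPB_eq π hE]
  unfold toPB
  have h1 : tensMap E (ClSub.unitToPush π) ≫ tensMap E (ret H) = 𝟙 _ :=
    ((DCoh.tensorBi.obj E).map_comp _ _).symm.trans
      ((congrArg (DCoh.tensorBi.obj E).map (unitToPush_ret H)).trans ((DCoh.tensorBi.obj E).map_id _))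
  simp only [Category.assoc, Iso.hom_inv_id_assoc]
  rw [← Category.assoc (tensMap E (ClSub.unitToPush π)), h1]
  erw [Category.id_comp]
  rw [Iso.inv_hom_id]

include H in
theorem injective_un_pi {E : Y.Modules} (hE : HasBases E) (n : ℕ) : Function.Injective (mapΓ (un π E) n) := by
  obtain ⟨r, hr⟩ := exists_ret_un H hE
  intro a b hab
  have h := congrArg (mapΓ r n) hab
  rwa [← mapΓ_comp_apply, ← mapΓ_comp_apply, hr, mapΓ_id] at h

end Coho

section Restr

variable {W : Scheme.{u}}

theorem isIso_un_of_iso (e : X ≅ Y) (M : Y.Modules) : IsIso (un e.hom M) := by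
  have h := (Groth.Agent.CurvesC.DegIso.unitIso e M).isIso_hom
  exact h

theorem injective_push_un_comp_iso (π : X ⟶ Y) (e : Z ≅ W) (ι : W ⟶ X) (E : X.Modules) (n : ℕ)
    (h : Function.Injective (mapΓ ((Scheme.Modules.pushforward π).map (un ι E)) n)) :
    Function.Injective (mapΓ ((Scheme.Modules.pushforward π).map (un (e.hom ≫ ι) E)) n) := by
  have := isIso_un_of_iso e ((Scheme.Modules.pullback ι).obj E)
  rw [un_comp, Functor.map_comp, mapΓ_comp]
  refine (mapΓ_bijective_of_isIso _ n).1.comp h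

/-- `π_* E ⟶ π_* i_* i^* E` on cohomology. -/
theorem injective_push_un (π : X ⟶ Y) [IsAffineHom π] (i : Z ⟶ X) [IsClosedImmersion i] {E : X.Modules}
    (hE : PicF.IsInvertible E) (hI : Coh.IsQCoh (CohB1.tensorMod E (ClSub.idealMod i.ker))) (n : ℕ)
    (k : Type u) [Field k] [X.Over (Spec (CommRingCat.of k))] [Y.Over (Spec (CommRingCat.of k))]
    (hk : π ≫ (Y ↘ Spec (CommRingCat.of k)) = X ↘ Spec (CommRingCat.of k))
    (hv : Subsingleton (Coh.HH X (CohB1.tensorMod E (ClSub.idealMod i.ker)) n)) :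
    Function.Injective (mapΓ ((Scheme.Modules.pushforward π).map (un i E)) n) := by
  have hB := HasBases.of_isFinLocFree (isFinLocFree hE)
  have h1 := restrSeq_shortExact hB i.ker
  have h2 := VarietyB.HHPush.shortExact_push π h1 (VarietyB.HHPush.acyc_of_affine π _ hI)
  obtain ⟨e⟩ := VarietyB.HHPush.exists_linearEquiv π k hk _ hI n
  have h3 : Subsingleton (Coh.HH Y ((Scheme.Modules.pushforward π).obj (CohB1.tensorMod E (ClSub.idealMod i.ker))) n) :=
    e.toEquiv.subsingleton
  have h4 : Function.Injective (mapΓ ((Scheme.Modules.pushforward π).map (toRestr hB i.ker)) n) := by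
    rw [injective_iff_map_eq_zero]
    intro a ha
    obtain ⟨b, hb⟩ := (exact₂ _ h2 n a).1 ha
    rw [← hb]
    exact (congrArg _ (h3.elim b 0)).trans (map_zero _)
  have h5 : toRestr hB i.ker = un i.ker.subschemeι E := toPB_eq i.ker.subschemeι hB
  rw [h5] at h4
  have h6 := injective_push_un_comp_iso π (asIso i.toImage) i.ker.subschemeι E n h4
  have h7 : ∀ j : Z ⟶ X, j = i → Function.Injective (mapΓ ((Scheme.Modules.pushforward π).map (un j E)) n) →
      Function.Injective (mapΓ ((Scheme.Modules.pushforward π).map (un i E)) n) := by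
    rintro _ rfl h
    exact h
  exact h7 _ i.toImage_imageι h6

end Restr

end K980.UnitMap
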