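import Groth.Agent.SymSq.K980.SymData
import Groth.Agent.SymSq.K980.UnitMap
import Groth.Agent.SymSq.K980.Kap

/-!
# Vanishing of `H^1` on the symmetric square of a hyperelliptic curve
-/

set_option autoImplicit false
universe u

open CategoryTheory CategoryTheory.Limits AlgebraicGeometry Opposite TopologicalSpace

namespace K980.HOne

open Groth.Agent Groth.Agent.Fdesc.LocGen Groth.Agent.Grpsch.PicGrp
open K980.DCover K980.Graph K980.CokerQ K980.InvQuot K980.PicNum K980.QuotSeq K980.Snap K980.BoxNum K980.Main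
open K980.SymData K980.Inter K980.UnitMap K980.Kap
open Groth.Agent.VarietyA.EulerLES Groth.Agent.VarietyB.TensCoh

attribute [local instance] ov

variable (k : Type u) [Field k] {C : Scheme.{u}} [C.Over (Spec (CommRingCat.of k))]

local notation "XX" => pullback (C ↘ Spec (CommRingCat.of k)) (C ↘ Spec (CommRingCat.of k))
local notation "p₁" => pullback.fst (C ↘ Spec (CommRingCat.of k)) (C ↘ Spec (CommRingCat.of k))
local notation "p₂" => pullback.snd (C ↘ Spec (CommRingCat.of k)) (C ↘ Spec (CommRingCat.of k))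

variable (κ : C ⟶ CohB1.ProjSpace 1 k) [IsAlgClosed k] (h2 : (2 : k) ≠ 0)
  [IsProper (C ↘ Spec (CommRingCat.of k))] [IsIntegral C] (hdim : topologicalKrullDim C ≤ 1)
  (g : ℕ) (hgen : Curv2.genus k C = g)
  (hκ : κ ≫ CohB1.ProjSpace.toSpec 1 k = (C ↘ Spec (CommRingCat.of k)))
  [IsFinite κ]
  {σ : C ⟶ C} (h : σ ≫ κ = κ) (hσ : σ ≫ (C ↘ Spec (CommRingCat.of k)) = C ↘ Spec (CommRingCat.of k))
  (hσ1 : σ ≠ 𝟙 C)
  (y : ∀ i : Fin 2, Γ(C, κ ⁻¹ᵁ CurvesC.ProjSpaceBasic.Dp 1 k i))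
  (hy : ∀ (i : Fin 2) (V : (CohB1.ProjSpace 1 k).Opens) (hV : V ≤ CurvesC.ProjSpaceBasic.Dp 1 k i),
    Function.Bijective (DCover.pr κ (y i) V hV))
  {N : (pullback (C ↘ Spec (CommRingCat.of k)) (C ↘ Spec (CommRingCat.of k))).Modules} (hN : PicF.IsInvertible N)
  (hNinv : ClSub.IsInverseOf N (ClSub.idealMod (gr k σ hσ).ker))
  (ρ : ULift.{u} (Equiv.Perm (Fin 2)) →* Aut (pullback (C ↘ Spec (CommRingCat.of k)) (C ↘ Spec (CommRingCat.of k))))
  (hρ : (ρ (ULift.up (Equiv.swap 0 1))).hom =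
    (pullbackSymmetry (C ↘ Spec (CommRingCat.of k)) (C ↘ Spec (CommRingCat.of k))).hom)
  {Sq : Scheme.{u}} {π : (pullback (C ↘ Spec (CommRingCat.of k)) (C ↘ Spec (CommRingCat.of k))) ⟶ Sq}
  (hπ : SGA1.IsQuot ρ π) (q : Sq ⟶ Spec (CommRingCat.of k)) (hq : π ≫ q = pullback.fst (C ↘ Spec (CommRingCat.of k)) (C ↘ Spec (CommRingCat.of k)) ≫ (C ↘ Spec (CommRingCat.of k)))

omit [IsAlgClosed k] in
include hκ h hσ1 hy hρ hπ in
/-- The curve is mapped to the symmetric square through the line. -/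
theorem gr_pi_invariant : σ ≫ (gr k σ hσ ≫ π) = gr k σ hσ ≫ π := by
  have h1 : σ ≫ gr k σ hσ = gr k σ hσ ≫ sw k (C := C) := by
    apply pullback.hom_ext
    · rw [Category.assoc, Category.assoc, sw_fst, gr_fst, gr_snd, Category.comp_id]
    · rw [Category.assoc, Category.assoc, sw_snd, gr_fst, gr_snd, Invol.sigma_sq k κ hκ h hσ1 y hy]
  have h3 : sw k (C := C) ≫ π = π := by rw [sw, ← hρ]; exact hπ.inv _
  rw [← Category.assoc, h1, Category.assoc, h3]

include h2 hκ h hσ1 hy hρ hπ hq in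
theorem exists_j : ∃ j : CohB1.ProjSpace 1 k ⟶ Sq, κ ≫ j = gr k σ hσ ≫ π ∧ IsAffineHom j ∧
    j ≫ q = CohB1.ProjSpace.toSpec 1 k := by
  obtain ⟨j, hj⟩ := exists_factor k h2 κ hκ h hσ1 y hy (gr k σ hσ ≫ π)
    (gr_pi_invariant k κ hκ h hσ hσ1 y hy ρ hρ hπ)
  have h3 := surjective_kappa k h2 κ hκ h hσ1 y hy
  have h4 : IsAffineHom π := hπ.affine
  have h5 : IsAffineHom (κ ≫ j) := by rw [hj]; infer_instance
  have h6 : IsLocallyNoetherian (CohB1.ProjSpace 1 k) :=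
    LocallyOfFiniteType.isLocallyNoetherian (CohB1.ProjSpace.toSpec 1 k)
  have h7 : CompactSpace (CohB1.ProjSpace 1 k) :=
    QuasiCompact.compactSpace_of_compactSpace (CohB1.ProjSpace.toSpec 1 k)
  have h8 : IsNoetherian (CohB1.ProjSpace 1 k) := {}
  refine ⟨j, hj, isAffineHom_of_comp κ j, ?_⟩
  apply hom_ext_kappa k h2 κ hκ h hσ1 y hy
  rw [← Category.assoc, hj, Category.assoc, hq, hκ, ← Category.assoc, gr_fst, Category.id_comp]

include h2 hdim hgen hκ h hσ1 hy hN hNinv hρ hπ hq in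
/-- Vanishing of `H^1`. -/
theorem van_one_sym (hg : 1 ≤ g) (c : Pic Sq) {m : ℤ} (hm : g ≤ m) (r : ℕ) (hr : ((g : ℤ) - 1) * r < 2 * m)
    (hc : pull π c = Setup.fc k κ m * mk N hN ^ r) : Van c 1 := by
  rcases r with _ | r
  · refine van_sym k κ h2 g hgen hκ h hσ hσ1 y hy hN hNinv ρ hρ hπ q hq _ 1 ?_
    rw [hc, pow_zero, mul_one]
    exact Setup.van_fc k κ g hgen hκ y hy hm le_rfl
  obtain ⟨hD, hS, e1, e2, e3, e4, e5, e6⟩ := facts k κ g hgen hκ h hσ hσ1 y hy hN hNinv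
  have H := qdata k ρ hρ hπ q hq h2 hD
  let iS : Sq.Over (Spec (CommRingCat.of k)) := ⟨q⟩
  have haff : IsAffineHom π := hπ.affine
  obtain ⟨j, hj, hjaff, hjq⟩ := exists_j k κ h2 hκ h hσ hσ1 y hy ρ hρ hπ q hq
  have hE := HasBases.of_isFinLocFree (isFinLocFree (rep_inv c))
  have hF := isInvertible_pullback π (rep_inv c)
  have hFI := isInvertible_tensorMod hF hS
  have v1 : Subsingleton (Coh.HH XX (CohB1.tensorMod ((Scheme.Modules.pullback π).obj (rep c))
      (ClSub.idealMod (gr k σ hσ).ker)) 1) := by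
    rw [← van_mk hFI, ← mk_mul_mk hF hS, ← pull_mk π (rep_inv c), mk_rep, hc, Num.mul_ideal k hσ hN hS e1]
    exact Num.van_one k κ g hgen hκ h hσ hσ1 y hy hN hNinv hg hm r (by push_cast at hr; linarith)
  have i1 := injective_push_un π (gr k σ hσ) hF (isCoh hFI).1 1 k hq v1
  have i2 := injective_un_pi H hE 1
  have i3 := (injective_un_comp_iff (gr k σ hσ) π (rep c) 1).2 (i1.comp i2)
  have i4 : ∀ f : C ⟶ Sq, f = κ ≫ j → Function.Injective (mapΓ (un f (rep c)) 1) →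
      Function.Injective (mapΓ (un (κ ≫ j) (rep c)) 1) := by
    rintro _ rfl h
    exact h
  have i5 := (injective_un_comp_iff κ j (rep c) 1).1 (i4 _ hj.symm i3)
  -- the middle term vanishes
  obtain ⟨s, hs⟩ : ∃ s : ℤ, pull j c = P1Num.tw k s := by
    obtain ⟨s, hs⟩ := Groth.Agent.S1697.result k 1 (rep (pull j c)) (rep_inv _)
    refine ⟨s, ?_⟩
    rw [← mk_rep (pull j c)]
    exact (mk_eq_iff _ _).2 hs
  have h3 : NumC.ell k κ s = NumC.ell k κ (2 * m - (g - 1) * (r + 1 : ℕ)) := by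
    rw [← Num.pull_fn k κ g hgen hκ h hσ hσ1 y hy hN hNinv, ← hc, ← pull_comp, ← hj, pull_comp, hs]
    rfl
  have h4 := congrArg (NumC.dg k) h3
  rw [NumC.dg_ell k g hgen κ hκ y hy hdim, NumC.dg_ell k g hgen κ hκ y hy hdim] at h4
  have v2 : Van (pull j c) 1 := by
    rw [hs]
    exact P1Num.van_one k (by linarith)
  have hjE := isInvertible_pullback j (rep_inv c)
  have v3 : Subsingleton (Coh.HH (CohB1.ProjSpace 1 k) ((Scheme.Modules.pullback j).obj (rep c)) 1) := by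
    rw [← van_mk hjE, ← pull_mk j (rep_inv c), mk_rep]
    exact v2
  obtain ⟨e⟩ := VarietyB.HHPush.exists_linearEquiv j k hjq ((Scheme.Modules.pullback j).obj (rep c)) (isCoh hjE).1 1
  have v4 : Subsingleton (Coh.HH Sq ((Scheme.Modules.pushforward j).obj ((Scheme.Modules.pullback j).obj (rep c))) 1) :=
    e.toEquiv.subsingleton
  exact ⟨fun a b => i5 (by
    have h5 := v4.elim (mapΓ (un j (rep c)) 1 a) (mapΓ (un j (rep c)) 1 b)
    exact congrArg (mapΓ ((Scheme.Modules.pushforward j).map (un κ ((Scheme.Modules.pullback j).obj (rep c)))) 1) h5)⟩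

end K980.HOne
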