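import Groth.Agent.SymSq.K980.SymData

/-!
# Intersection numbers on the symmetric square
-/

set_option autoImplicit false
universe u

open CategoryTheory CategoryTheory.Limits AlgebraicGeometry Opposite TopologicalSpace

namespace K980.SymInt

open Groth.Agent Groth.Agent.Fdesc.LocGen Groth.Agent.Grpsch.PicGrp
open K980.DCover K980.Graph K980.CokerQ K980.InvQuot K980.PicNum K980.QuotSeq K980.Snap K980.BoxNum K980.Main
open K980.SymData K980.Inter

attribute [local instance] ov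

variable (k : Type u) [Field k] {C : Scheme.{u}} [C.Over (Spec (CommRingCat.of k))]

local notation "XX" => pullback (C ↘ Spec (CommRingCat.of k)) (C ↘ Spec (CommRingCat.of k))

/-- The intersection form on classes. -/
noncomputable def qf {X : Scheme.{u}} [X.Over (Spec (CommRingCat.of k))] (b c : Pic X) : ℤ :=
  chi k (1 : Pic X) - chi k b - chi k c + chi k (b * c)

section

variable [IsProper (C ↘ Spec (CommRingCat.of k))] (hdim : topologicalKrullDim C ≤ 1) [IsIntegral C]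
  {τ : C ⟶ C} (hτ : τ ≫ (C ↘ Spec (CommRingCat.of k)) = C ↘ Spec (CommRingCat.of k))
  {T : (pullback (C ↘ Spec (CommRingCat.of k)) (C ↘ Spec (CommRingCat.of k))).Modules} (hT : PicF.IsInvertible T)
  (hTinv : ClSub.IsInverseOf T (ClSub.idealMod (gr k τ hτ).ker))

include hdim hTinv in
theorem qf_graph (b : Pic XX) : qf k b (mk T hT) = NumC.dg k (pull (gr k τ hτ) b) :=
  int_graph k hdim hτ hT hTinv b

include hdim hTinv in
/-- The intersection number with twice a graph. -/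
theorem qf_graph_two (b : Pic XX) : qf k b (mk T hT * mk T hT) = 2 * NumC.dg k (pull (gr k τ hτ) b) := by
  have h1 := qf_graph k hdim hτ hT hTinv b
  have h2 := qf_graph k hdim hτ hT hTinv (b * mk T hT)
  have h3 := qf_graph k hdim hτ hT hTinv (mk T hT)
  rw [map_mul, NumC.dg_mul k hdim] at h2
  rw [qf] at h1 h2 h3 ⊢
  rw [mul_assoc] at h2
  linarith

omit [IsIntegral C] in
include hdim hTinv in
theorem van_mul_two (c : Pic XX) {i : ℕ} (hi : 3 ≤ i) (h : Van c i) : Van (c * (mk T hT * mk T hT)) i := by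
  rw [← mul_assoc]
  exact van_mul k hdim hτ hT hTinv _ hi (van_mul k hdim hτ hT hTinv _ hi h)

include hdim in
theorem qf_box (a b c d : Pic C) : qf k (bx k a b) (bx k c d) =
    NumC.dg k a * NumC.dg k d + NumC.dg k b * NumC.dg k c := by
  rw [qf, ← bx_mul, ← bx_one,
    chi_bx k _ _ (fun _ => van_curve k hdim _) (fun _ => van_curve k hdim _),
    chi_bx k _ _ (fun _ => van_curve k hdim _) (fun _ => van_curve k hdim _),
    chi_bx k _ _ (fun _ => van_curve k hdim _) (fun _ => van_curve k hdim _),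
    chi_bx k _ _ (fun _ => van_curve k hdim _) (fun _ => van_curve k hdim _),
    NumC.chi_mul k hdim, NumC.chi_mul k hdim, NumC.dg, NumC.dg, NumC.dg, NumC.dg]
  ring

omit [IsIntegral C] in
include hdim in
theorem van_bx3 (a b : Pic C) {i : ℕ} (hi : 3 ≤ i) : Van (bx k a b) i := van_box k hdim a b hi

omit [IsIntegral C] in
include hdim in
theorem van_one3 {i : ℕ} (hi : 3 ≤ i) : Van (1 : Pic XX) i := by
  rw [← bx_one]
  exact van_box k hdim 1 1 hi

end

section Hyp

variable (κ : C ⟶ CohB1.ProjSpace 1 k) [IsAlgClosed k] (h2 : (2 : k) ≠ 0)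
  [IsProper (C ↘ Spec (CommRingCat.of k))] [IsIntegral C] (hdim : topologicalKrullDim C ≤ 1)
  (g : ℕ) (hgen : Curv2.genus k C = g)
  (hκ : κ ≫ CohB1.ProjSpace.toSpec 1 k = (C ↘ Spec (CommRingCat.of k)))
  [IsFinite κ]
  {σ : C ⟶ C} (h : σ ≫ κ = κ) (hσ : σ ≫ (C ↘ Spec (CommRingCat.of k)) = C ↘ Spec (CommRingCat.of k))
  (hσ1 : σ ≠ 𝟙 C)
  (y : ∀ i : Fin 2, Γ(C, κ ⁻¹ᵁ CurvesC.ProjSpaceBasic.Dp 1 k i))
  (hy : ∀ (i : Fin 2) (V : (CohB1.ProjSpace 1 k).Opens) (hV : V ≤ CurvesC.ProjSpaceBasic.Dp 1 k i),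
    Function.Bijective (DCover.pr κ (y i) V hV))
  {N : (pullback (C ↘ Spec (CommRingCat.of k)) (C ↘ Spec (CommRingCat.of k))).Modules} (hN : PicF.IsInvertible N)
  (hNinv : ClSub.IsInverseOf N (ClSub.idealMod (gr k σ hσ).ker))
  (ρ : ULift.{u} (Equiv.Perm (Fin 2)) →* Aut (pullback (C ↘ Spec (CommRingCat.of k)) (C ↘ Spec (CommRingCat.of k))))
  (hρ : (ρ (ULift.up (Equiv.swap 0 1))).hom =
    (pullbackSymmetry (C ↘ Spec (CommRingCat.of k)) (C ↘ Spec (CommRingCat.of k))).hom)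
  {Sq : Scheme.{u}} {π : (pullback (C ↘ Spec (CommRingCat.of k)) (C ↘ Spec (CommRingCat.of k))) ⟶ Sq}
  (hπ : SGA1.IsQuot ρ π) (q : Sq ⟶ Spec (CommRingCat.of k)) (hq : π ≫ q = pullback.fst (C ↘ Spec (CommRingCat.of k)) (C ↘ Spec (CommRingCat.of k)) ≫ (C ↘ Spec (CommRingCat.of k)))

include h2 hdim hgen hκ h hσ1 hy hN hNinv hρ hπ hq in
/-- Intersection numbers on the symmetric square are half of those of the pullbacks. -/
theorem intNum_sym {L M : Sq.Modules} (hL : PicF.IsInvertible L) (hM : PicF.IsInvertible M) (z : ℤ)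
    (v1 : ∀ i, 3 ≤ i → Van (pull π (mk L hL)) i) (v2 : ∀ i, 3 ≤ i → Van (pull π (mk M hM)) i)
    (v3 : ∀ i, 3 ≤ i → Van (pull π (mk L hL) * pull π (mk M hM)) i)
    (hz : qf k (pull π (mk L hL)) (pull π (mk M hM)) = 2 * z) :
    letI : Sq.Over (Spec (CommRingCat.of k)) := ⟨q⟩
    FGA.intNum k Sq 2 ![L, M] (Coh.structureModule Sq) = z := by
  let iS : Sq.Over (Spec (CommRingCat.of k)) := ⟨q⟩
  have hv := van_sym k κ h2 g hgen hκ h hσ hσ1 y hy hN hNinv ρ hρ hπ q hq
  rw [intNum_mk k hL hM (fun i hi => hv _ i (by rw [map_one]; exact van_one3 k hdim hi))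
    (fun i hi => hv _ i (v1 i hi)) (fun i hi => hv _ i (v2 i hi)) (fun i hi => hv _ i (by
      rw [map_mul]; exact v3 i hi))]
  have h1 := int_sym k κ h2 hdim g hgen hκ h hσ hσ1 y hy hN hNinv ρ hρ hπ q hq (mk L hL) (mk M hM)
  rw [qf] at hz
  have h3 := h1.trans hz
  linarith

end Hyp

end K980.SymInt
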