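import Groth.Agent.SymSq.K980.QuotSeq

/-!
# Injectivity of the pullback on Picard groups for the quotient by an involution

* `isGen_of_pullSec`, `pullSec_injective`: sections of line bundles on the quotient.
* `eq_one_of_pull`: `π^* c = 1` implies `c = 1` if `h^0(O_X) = 1` and the fixed scheme is not empty.
-/

set_option autoImplicit false
universe u

open CategoryTheory CategoryTheory.Limits AlgebraicGeometry Opposite TopologicalSpace

namespace K980.PicInj

open Groth.Agent Groth.Agent.Fdesc.LocGen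
open K980.DCover K980.Graph K980.CokerQ K980.InvQuot K980.PicNum K980.QuotSeq
open Groth.Agent.Picfga.LineHom Groth.Agent.Dix.IdealModCartier Groth.Agent.Grpsch.PicGrp
open Groth.Agent.CurvesB

variable {X S Z : Scheme.{u}} {π : X ⟶ S} {τ : X ⟶ X} {i : Z ⟶ X} (H : QData π τ i)

include H in
theorem isUnit_of_isUnit_fa {V : S.Opens} {a : Γ(S, V)} (h : IsUnit (fa π V a)) : IsUnit a := by
  obtain ⟨b, hb⟩ := h.exists_right_inv
  have h1 : tq π H.hτπ V b = b := by
    have h2 := congrArg (tq π H.hτπ V) hb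
    rw [map_mul, tq_fa, map_one] at h2
    calc tq π H.hτπ V b = (fa π V a * b) * tq π H.hτπ V b := by rw [hb, one_mul]
      _ = b * (fa π V a * tq π H.hτπ V b) := by ring
      _ = b := by rw [h2, mul_one]
  obtain ⟨c, hc⟩ := H.hinv V b h1
  refine IsUnit.of_mul_eq_one c (H.hinj V ?_)
  rw [map_mul, hc, hb, map_one]

include H in
theorem isGen_of_pullSec {M : S.Modules} (hM : PicF.IsInvertible M) {U : S.Opens} {s : Γ(M, U)}
    (h : IsGen (pullSec π s)) : IsGen s := by
  rw [isGen_iff_forall_exists]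
  intro x hx
  obtain ⟨V, n, hxV, hn⟩ := (isInvertible_iff M).1 hM x
  refine ⟨V ⊓ U, inf_le_right, ⟨hxV, hx⟩, ?_⟩
  have hn' := hn.res (inf_le_left : V ⊓ U ≤ V)
  obtain ⟨a, ha⟩ := hn'.exists_eq (res M (inf_le_right : V ⊓ U ≤ U) s)
  rw [ha]
  apply hn'.unit_smul
  apply isUnit_of_isUnit_fa H
  have h1 := h.res (π.preimage_mono (inf_le_right : V ⊓ U ≤ U))
  rw [res_pullSec π (inf_le_right : V ⊓ U ≤ U), ha, pullSec_smul] at h1
  exact (hn'.pullSec π).isUnit_of_smul h1

include H in
theorem pullSec_injective {M : S.Modules} (hM : PicF.IsInvertible M) {U : S.Opens} {s t : Γ(M, U)}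
    (h : pullSec π s = pullSec π t) : s = t := by
  choose V n hxV hn using (isInvertible_iff M).1 hM
  refine res_ext M (fun x : U => V x.1 ⊓ U) (fun x => inf_le_right)
    (fun x hx => Opens.mem_iSup.2 ⟨⟨x, hx⟩, hxV x, hx⟩) fun x => ?_
  have hn' := (hn x.1).res (inf_le_left : V x.1 ⊓ U ≤ V x.1)
  obtain ⟨a, ha⟩ := hn'.exists_eq (res M (inf_le_right : V x.1 ⊓ U ≤ U) s)
  obtain ⟨b, hb⟩ := hn'.exists_eq (res M (inf_le_right : V x.1 ⊓ U ≤ U) t)
  rw [ha, hb]
  have h1 := congrArg (res _ (π.preimage_mono (inf_le_right : V x.1 ⊓ U ≤ U))) h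
  rw [res_pullSec π (inf_le_right : V x.1 ⊓ U ≤ U), res_pullSec π (inf_le_right : V x.1 ⊓ U ≤ U), ha, hb,
    pullSec_smul, pullSec_smul] at h1
  rw [H.hinj _ ((hn'.pullSec π).ext h1)]

section Field

variable (k : Type u) [Field k] [X.Over (Spec (CommRingCat.of k))] [S.Over (Spec (CommRingCat.of k))]
  [Z.Over (Spec (CommRingCat.of k))]
  (hk : π ≫ (S ↘ Spec (CommRingCat.of k)) = X ↘ Spec (CommRingCat.of k))
  (hik : i ≫ (X ↘ Spec (CommRingCat.of k)) = Z ↘ Spec (CommRingCat.of k))
  (hX : hd k (1 : Pic X) 0 = 1) [Nonempty Z]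

omit [S.Over (Spec (CommRingCat.of k))] in
include hik hX in
/-- The ideal of the fixed scheme has no global sections. -/
theorem van_ideal : Van (mk (ClSub.idealMod i.ker) H.hD) 0 := by
  have := H.imm
  rw [van_mk]
  rw [one_def, hd_mk] at hX
  refine (HZero.equivAdd (ClSub.idealMod i.ker)).toEquiv.subsingleton_congr.2 (subsingleton_of_forall_eq 0 fun s => ?_)
  apply val_injective
  obtain ⟨t, ht⟩ := HZero.exists_const k hX (val _ s)
  have h1 : fa i ⊤ (val _ s) = 0 := by
    refine ores_ext (fun x : Z => i ⁻¹ᵁ (exists_affine_mem_le (⊤ : X.Opens) (i x) trivial).choose.1)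
      (fun x => i.preimage_mono le_top) (fun x _ => Opens.mem_iSup.2 ⟨x, (exists_affine_mem_le ⊤ (i x) trivial).choose_spec.1⟩)
      fun x => ?_
    set W := (exists_affine_mem_le (⊤ : X.Opens) (i x) trivial).choose with hW
    have h2 := val_mem i.ker W (res _ le_top s)
    rw [Scheme.Hom.ker_apply, RingHom.mem_ker, val_res] at h2
    rw [map_zero]
    refine Eq.trans ?_ h2
    exact ores_fa i (le_top : W.1 ≤ ⊤) (val _ s)
  have h2 : fa i ⊤ (HZero.gl k X t) = HZero.gl k Z t := Groth.Agent.VarietyB.HHPush.appTop_gl i k hik t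
  have hne : Nonempty (⊤ : Z.Opens) := ⟨⟨Classical.arbitrary Z, trivial⟩⟩
  have hnt : Nontrivial Γ(Z, ⊤) := inferInstance
  have h3 : t = 0 := by
    rw [← ht, h2] at h1
    exact (map_eq_zero (HZero.gl k Z)).1 h1
  have h4 := val_smul i.ker (0 : Γ(X, ⊤)) s
  rw [zero_smul, zero_mul] at h4
  rw [← ht, h3, map_zero]
  exact h4.symm

include H hk hik hX in
theorem eq_one_of_pull [IsProper (X ↘ Spec (CommRingCat.of k))] (c : Pic S) (hc : pull π c = 1) : c = 1 := by
  have h1 : Van (c * bc H) 0 := by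
    refine van_left H k hk _ 0 ?_
    rw [map_mul, hc, one_mul, pull_bc H]
    exact van_ideal H k hik hX
  have h2 := hd_add H k hk c 0
  have h3 : hd k (c * bc H) 0 = 0 := by
    have : Subsingleton (Coh.HH S (rep (c * bc H)) 0) := h1
    exact Module.finrank_zero_of_subsingleton
  rw [hc, hX, h3, add_zero] at h2
  have h4 : Nontrivial (Coh.HH S (rep c) 0) := Module.nontrivial_of_finrank_pos (R := k) (by
    have : Module.finrank k (Coh.HH S (rep c) 0) = 1 := h2.symm
    omega)
  have h5 : Nontrivial Γ(rep c, ⊤) := (HZero.equivAdd (rep c)).toEquiv.nontrivial_congr.1 h4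
  obtain ⟨s, hs⟩ := exists_ne (0 : Γ(rep c, ⊤))
  have h6 : Nonempty ((Scheme.Modules.pullback π).obj (rep c) ≅ Coh.structureModule X) := by
    rw [← mk_eq_one_iff (isInvertible_pullback π (rep_inv c)), ← pull_mk π (rep_inv c), mk_rep, hc]
  obtain ⟨φ⟩ := h6
  rw [one_def, hd_mk] at hX
  obtain ⟨f, hf⟩ := (ofFun (X := X) (U := (⊤ : X.Opens))).surjective (φ.hom.app ⊤ (pullSec π s))
  obtain ⟨t, ht⟩ := HZero.exists_const k hX f
  have ht0 : t ≠ 0 := by
    rintro rfl
    apply hs
    apply pullSec_injective H (rep_inv c)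
    have h7 : φ.hom.app ⊤ (pullSec π s) = 0 := by
      rw [← hf, ← ht, map_zero, map_zero]
    have h8 : Function.Injective (φ.hom.app (⊤ : X.Opens)) :=
      (ConcreteCategory.bijective_of_isIso (φ.hom.app (⊤ : X.Opens))).1
    have h9 : pullSec π s = 0 := h8 (h7.trans (map_zero _).symm)
    rw [h9]
    have h10 : pullSec π ((0 : Γ(S, ⊤)) • s) = fa π ⊤ 0 • pullSec π s := pullSec_smul π 0 s
    rw [zero_smul, map_zero, zero_smul] at h10
    exact h10.symm
  have hfu : IsUnit f := by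
    rw [← ht]
    exact (IsUnit.mk0 t ht0).map (HZero.gl k X)
  have h7 : IsGen (φ.hom.app ⊤ (pullSec π s)) := by
    rw [← hf, ofFun_eq_smul]
    exact (isGen_one ⊤).unit_smul hfu
  have h8 : IsGen (pullSec π s) := by
    have h9 := h7.app φ.inv
    have h10 : φ.inv.app ⊤ (φ.hom.app ⊤ (pullSec π s)) = pullSec π s := by
      have := congr(($(φ.hom_inv_id)).app ⊤ (pullSec π s))
      exact this
    rwa [h10] at h9
  have h9 : IsGen s := isGen_of_pullSec H (rep_inv c) h8
  have h10 : IsIso (homOf s) := by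
    rw [isIso_iff_isGen, sec_homOf, res_refl]
    exact h9
  rw [← mk_rep c, mk_eq_one_iff]
  exact ⟨(asIso (homOf s)).symm⟩

end Field

end K980.PicInj
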