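import Groth.Agent.SymSq.K980.SymInt
import Groth.Agent.SymSq.K980.PicInj

/-!
# Weierstrass points and the linear equivalence `4 Θ ~ Δ + 2 ∇`
-/

set_option autoImplicit false
universe u

open CategoryTheory CategoryTheory.Limits AlgebraicGeometry Opposite TopologicalSpace

namespace K980.Weier

open Groth.Agent Groth.Agent.Fdesc.LocGen Groth.Agent.Grpsch.PicGrp Groth.Agent.Dix.IdealModCartier
open K980.DCover K980.Graph K980.CokerQ K980.InvQuot K980.PicNum K980.QuotSeq K980.Snap K980.BoxNum K980.Main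
open K980.SymData K980.Inter

attribute [local instance] ov

/-- The kernel of the base change of a closed immersion is the inverse image of the kernel. -/
theorem ker_fst_of_isPullback {P X Y Z : Scheme.{u}} {p : P ⟶ X} {q : P ⟶ Z} {f : X ⟶ Y} {i : Z ⟶ Y}
    (sq : IsPullback p q f i) [IsClosedImmersion i] : p.ker = i.ker.comap f := by
  rw [← Scheme.IdealSheafData.ker_fst_of_isClosedImmersion, ← sq.isoPullback_hom_fst,
    Scheme.Hom.ker_comp_of_isIso]

variable (k : Type u) [Field k] {C : Scheme.{u}} [C.Over (Spec (CommRingCat.of k))]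

local notation "XX" => pullback (C ↘ Spec (CommRingCat.of k)) (C ↘ Spec (CommRingCat.of k))
local notation "p₁" => pullback.fst (C ↘ Spec (CommRingCat.of k)) (C ↘ Spec (CommRingCat.of k))
local notation "p₂" => pullback.snd (C ↘ Spec (CommRingCat.of k)) (C ↘ Spec (CommRingCat.of k))

section Pt

variable {x : Spec (CommRingCat.of k) ⟶ C} (hx : x ≫ (C ↘ Spec (CommRingCat.of k)) = 𝟙 (Spec (CommRingCat.of k)))

/-- The curve `{x} × C`. -/
noncomputable def jx : C ⟶ XX :=
  pullback.lift ((C ↘ Spec (CommRingCat.of k)) ≫ x) (𝟙 C) (by rw [Category.assoc, hx, Category.comp_id, Category.id_comp])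

theorem jx_fst : jx k hx ≫ p₁ = (C ↘ Spec (CommRingCat.of k)) ≫ x := pullback.lift_fst _ _ _
theorem jx_snd : jx k hx ≫ p₂ = 𝟙 C := pullback.lift_snd _ _ _

variable {τ : C ⟶ C} (hτ : τ ≫ (C ↘ Spec (CommRingCat.of k)) = C ↘ Spec (CommRingCat.of k)) (hxτ : x ≫ τ = x)

include hxτ in
theorem isPullback : IsPullback x x (jx k hx) (gr k τ hτ) := by
  refine ⟨⟨?_⟩, ⟨PullbackCone.IsLimit.mk _ (fun s => s.fst ≫ (C ↘ Spec (CommRingCat.of k))) ?_ ?_ ?_⟩⟩
  · apply pullback.hom_ext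
    · rw [Category.assoc, Category.assoc, jx_fst, gr_fst, ← Category.assoc, hx, Category.id_comp, Category.comp_id]
    · rw [Category.assoc, Category.assoc, jx_snd, gr_snd, Category.comp_id, hxτ]
  · intro s
    have h1 := congr($(s.condition) ≫ p₁)
    have h2 := congr($(s.condition) ≫ p₂)
    rw [Category.assoc, Category.assoc, jx_fst, gr_fst, Category.comp_id] at h1
    rw [Category.assoc, Category.assoc, jx_snd, gr_snd, Category.comp_id] at h2
    rw [Category.assoc, h1, h2, ← h1, Category.assoc, Category.assoc, hxτ]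
  · intro s
    have h1 := congr($(s.condition) ≫ p₁)
    rw [Category.assoc, Category.assoc, jx_fst, gr_fst, Category.comp_id] at h1
    rw [Category.assoc, h1]
  · intro s m h1 h2
    rw [← h1, Category.assoc, hx, Category.comp_id]

variable [IsSeparated (C ↘ Spec (CommRingCat.of k))]

include hxτ in
/-- The pullback of the ideal of a graph through `(x, x)`. -/
theorem pull_jx (hD : PicF.IsInvertible (ClSub.idealMod (gr k τ hτ).ker)) (hI : PicF.IsInvertible (ClSub.idealMod x.ker)) :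
    pull (jx k hx) (mk _ hD) = mk _ hI := by
  have h1 : x.ker = (gr k τ hτ).ker.comap (jx k hx) := ker_fst_of_isPullback (isPullback k hx hτ hxτ)
  have h2 := isEffCartierIdeal_of_isInvertible hI
  rw [h1] at h2
  obtain ⟨e⟩ := pullback_idealMod (jx k hx) (isEffCartierIdeal_of_isInvertible hD) h2
  rw [pull_mk]
  refine mk_congr (e ≪≫ eqToIso ?_)
  rw [h1]

omit [IsSeparated (C ↘ Spec (CommRingCat.of k))] in
theorem pull_jx_bx (a b : Pic C) : pull (jx k hx) (bx k a b) = b := by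
  rw [bx, map_mul, ← pull_comp, ← pull_comp, jx_fst, jx_snd, pull_comp, pull_id, pic_spec_local k (pull x a), map_one,
    one_mul]

end Pt

theorem hd_one_XX [IsProper (C ↘ Spec (CommRingCat.of k))] [IsIntegral C] [IsAlgClosed k] :
    hd k (1 : Pic XX) 0 = 1 := by
  rw [← bx_one, hd_bx]
  simp [NumC.hd_structure]

section Hyp

variable (κ : C ⟶ CohB1.ProjSpace 1 k) [IsAlgClosed k] (h2 : (2 : k) ≠ 0)
  [IsProper (C ↘ Spec (CommRingCat.of k))] [IsIntegral C] (hdim : topologicalKrullDim C ≤ 1)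
  (g : ℕ) (hgen : Curv2.genus k C = g)
  (hκ : κ ≫ CohB1.ProjSpace.toSpec 1 k = (C ↘ Spec (CommRingCat.of k)))
  [IsFinite κ]
  {σ : C ⟶ C} (h : σ ≫ κ = κ) (hσ : σ ≫ (C ↘ Spec (CommRingCat.of k)) = C ↘ Spec (CommRingCat.of k))
  (hσ1 : σ ≠ 𝟙 C)
  (y : ∀ i : Fin 2, Γ(C, κ ⁻¹ᵁ CurvesC.ProjSpaceBasic.Dp 1 k i))
  (hy : ∀ (i : Fin 2) (V : (CohB1.ProjSpace 1 k).Opens) (hV : V ≤ CurvesC.ProjSpaceBasic.Dp 1 k i),
    Function.Bijective (DCover.pr κ (y i) V hV))
  {N : (pullback (C ↘ Spec (CommRingCat.of k)) (C ↘ Spec (CommRingCat.of k))).Modules} (hN : PicF.IsInvertible N)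
  (hNinv : ClSub.IsInverseOf N (ClSub.idealMod (gr k σ hσ).ker))
  {ND : (pullback (C ↘ Spec (CommRingCat.of k)) (C ↘ Spec (CommRingCat.of k))).Modules} (hND : PicF.IsInvertible ND)
  (hNDinv : ClSub.IsInverseOf ND (ClSub.idealMod (gr k (𝟙 C) (Category.id_comp _)).ker))
  {x : Spec (CommRingCat.of k) ⟶ C} (hx : x ≫ (C ↘ Spec (CommRingCat.of k)) = 𝟙 (Spec (CommRingCat.of k)))
  (hxσ : x ≫ σ = x)
  {A : C.Modules} (hA : PicF.IsInvertible A) (hAinv : ClSub.IsInverseOf A (ClSub.idealMod x.ker))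

include hgen hκ h hσ1 hy hN hNinv hND hNDinv in
/-- The classes of the two graphs add up to `fc 1`. -/
theorem nd_mul_n : mk ND hND * mk N hN = Setup.fc k κ 1 := by
  obtain ⟨hD, hS, e1, e2, e3, e4, e5, e6⟩ := facts k κ g hgen hκ h hσ hσ1 y hy hN hNinv
  have h1 := inv_of_isInverseOf hND hD hNDinv
  rw [e1, h1, ← mul_inv, mul_inv_eq_one] at e2
  exact e2.symm

include hgen hκ h hσ1 hy hN hNinv hND hNDinv hx hxσ hAinv in
/-- Twice a Weierstrass point. -/
theorem weier : mk A hA * mk A hA = NumC.ell k κ 1 := by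
  have hI := (isInvertible_of_isInverseOf hAinv).2
  have hD := (isInvertible_of_isInverseOf hNDinv).2
  have hS := (isInvertible_of_isInverseOf hNinv).2
  have h1 := inv_of_isInverseOf hND hD hNDinv
  have h2 := inv_of_isInverseOf hN hS hNinv
  have h3 := inv_of_isInverseOf hA hI hAinv
  have h4 : pull (jx k hx) (mk ND hND) = mk A hA := by
    have h5 := pull_jx k hx (Category.id_comp _) (Category.comp_id x) hD hI
    rw [h1, h3, map_inv, inv_inj] at h5
    exact h5
  have h6 : pull (jx k hx) (mk N hN) = mk A hA := by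
    have h5 := pull_jx k hx hσ hxσ hS hI
    rw [h2, h3, map_inv, inv_inj] at h5
    exact h5
  have h7 := congrArg (pull (jx k hx)) (nd_mul_n k κ g hgen hκ h hσ hσ1 y hy hN hNinv hND hNDinv)
  rwa [map_mul, h4, h6, Setup.fc, pull_jx_bx] at h7

variable (ρ : ULift.{u} (Equiv.Perm (Fin 2)) →* Aut (pullback (C ↘ Spec (CommRingCat.of k)) (C ↘ Spec (CommRingCat.of k))))
  (hρ : (ρ (ULift.up (Equiv.swap 0 1))).hom =
    (pullbackSymmetry (C ↘ Spec (CommRingCat.of k)) (C ↘ Spec (CommRingCat.of k))).hom)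
  {Sq : Scheme.{u}} {π : (pullback (C ↘ Spec (CommRingCat.of k)) (C ↘ Spec (CommRingCat.of k))) ⟶ Sq}
  (hπ : SGA1.IsQuot ρ π) (q : Sq ⟶ Spec (CommRingCat.of k)) (hq : π ≫ q = pullback.fst (C ↘ Spec (CommRingCat.of k)) (C ↘ Spec (CommRingCat.of k)) ≫ (C ↘ Spec (CommRingCat.of k)))

include h2 hgen hκ h hσ1 hy hN hNinv hρ hπ hq in
/-- The pullback to the square is injective on Picard groups. -/
theorem pull_injective : Function.Injective (pull π : Pic Sq →* Pic XX) := by
  obtain ⟨hD, hS, e1, e2, e3, e4, e5, e6⟩ := facts k κ g hgen hκ h hσ hσ1 y hy hN hNinv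
  have H := qdata k ρ hρ hπ q hq h2 hD
  let iS : Sq.Over (Spec (CommRingCat.of k)) := ⟨q⟩
  have hp2 := isProper_ov k (C := C)
  rw [injective_iff_map_eq_one]
  intro c hc
  exact PicInj.eq_one_of_pull H k hq (Num.gr_over k (Category.id_comp _)) (hd_one_XX k) c hc

include h2 hgen hκ h hσ1 hy hN hNinv hρ hπ hq hND hNDinv hx hxσ hAinv in
/-- `4 Θ ~ Δ + 2 ∇`. -/
theorem four_theta {cΘ cΔ cV : Pic Sq} (h1 : pull π cΘ = bx k (mk A hA) (mk A hA))
    (h3 : pull π cΔ = mk ND hND * mk ND hND) (h4 : pull π cV = mk N hN) : cΘ ^ 4 = cΔ * cV ^ 2 := by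
  apply pull_injective k κ h2 g hgen hκ h hσ hσ1 y hy hN hNinv ρ hρ hπ q hq
  have h5 := nd_mul_n k κ g hgen hκ h hσ hσ1 y hy hN hNinv hND hNDinv
  have h6 := weier k κ g hgen hκ h hσ hσ1 y hy hN hNinv hND hNDinv hx hxσ hA hAinv
  have h7 : bx k (mk A hA) (mk A hA) * bx k (mk A hA) (mk A hA) = mk ND hND * mk N hN := by
    rw [← bx_mul, h6, h5, Setup.fc]
  calc pull π (cΘ ^ 4) = (bx k (mk A hA) (mk A hA) * bx k (mk A hA) (mk A hA)) ^ 2 := by
        rw [map_pow, h1, ← pow_two, ← pow_mul]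
    _ = (mk ND hND * mk N hN) ^ 2 := by rw [h7]
    _ = pull π (cΔ * cV ^ 2) := by
      rw [map_mul, map_pow, h3, h4, mul_pow, ← pow_two]

end Hyp

end K980.Weier
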