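import Groth.Agent.HypSq.K980.Double

/-!
# Quotients by an involution whose fixed scheme is a Cartier divisor

`π : X ⟶ S` affine with an involution `τ` of `X` over `S` such that the functions on `S` are the invariant functions
on `X`, two invertible; `i : Z ⟶ X` the fixed scheme, an effective Cartier divisor.

* `ideal_fix`: the ideal of `Z` is generated by the differences `a - τ a`.
* `exists_gen`: locally on `S` it is generated by an anti-invariant function `e`;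
* `pr_bijective`: and `1, e` is then a basis of `π_* O_X`.
-/

set_option autoImplicit false
universe u

open CategoryTheory CategoryTheory.Limits AlgebraicGeometry Opposite TopologicalSpace

namespace K980.InvQuot

open Groth.Agent Groth.Agent.Fdesc.LocGen
open K980.DCover K980.Graph K980.CokerQ
open Groth.Agent.Picfga.LineHom Groth.Agent.Dix.IdealModCartier Groth.Agent.Grpsch.PicGrp

/-- `GenOn` is local. -/
theorem genOn_of_local {X : Scheme.{u}} {D : X.IdealSheafData} {U : X.Opens} {a : Γ(X, U)}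
    (h : ∀ x ∈ U, ∃ (W : X.Opens) (hW : W ≤ U), x ∈ W ∧ GenOn D (ores hW a)) : GenOn D a := by
  obtain ⟨s, hs⟩ := exists_val_eq_of_local D U a (by
    intro x hx
    obtain ⟨W, hW, hxW, hg⟩ := h x hx
    obtain ⟨V, hxV, hV⟩ := exists_affine_mem_le W x hxW
    refine ⟨V, hV.trans hW, hxV, ?_⟩
    have h1 := (hg V hV).2
    rw [ores_ores] at h1
    rw [h1]
    exact Ideal.mem_span_singleton_self _)
  have hgen : IsGen s := by
    rw [isGen_iff_forall_exists]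
    intro x hx
    obtain ⟨W, hW, hxW, hg⟩ := h x hx
    refine ⟨W, hW, hxW, isGen_of_genOn ?_⟩
    rw [val_res, hs]
    exact hg
  have h1 := genOn_of_isGen hgen
  rwa [hs] at h1

theorem GenOn_unit_mul {X : Scheme.{u}} {D : X.IdealSheafData} {U : X.Opens} {a s : Γ(X, U)} (h : GenOn D a)
    (hs : IsUnit s) : GenOn D (s * a) := by
  intro W hW
  rw [map_mul]
  refine ⟨mul_mem (hs.map (ores hW)).mem_nonZeroDivisors (h W hW).1, ?_⟩
  rw [(h W hW).2, Ideal.span_singleton_mul_left_unit (hs.map (ores hW))]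

theorem GenOn_neg {X : Scheme.{u}} {D : X.IdealSheafData} {U : X.Opens} {a : Γ(X, U)} (h : GenOn D a) :
    GenOn D (-a) := by
  rw [← neg_one_mul]
  exact GenOn_unit_mul h isUnit_one.neg

theorem GenOn_res {X : Scheme.{u}} {D : X.IdealSheafData} {U V : X.Opens} {a : Γ(X, U)} (h : GenOn D a)
    (hV : V ≤ U) : GenOn D (ores hV a) := by
  intro W hW
  rw [ores_ores]
  exact h W (hW.trans hV)

/-- Division by a generator. -/
theorem exists_mul_of_genOn {X : Scheme.{u}} {D : X.IdealSheafData} {U : X.Opens} {e : Γ(X, U)} (h : GenOn D e)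
    (a : Γ(X, U)) (ha : ∀ (W : X.affineOpens) (hW : W.1 ≤ U), ores hW a ∈ D.ideal W) : ∃ c, a = c * e := by
  obtain ⟨s, hs⟩ := exists_val_eq_of_local D U a (by
    intro x hx
    obtain ⟨V, hxV, hV⟩ := exists_affine_mem_le U x hx
    exact ⟨V, hV, hxV, ha V hV⟩)
  obtain ⟨t, ht⟩ := exists_val_eq_of_local D U e (by
    intro x hx
    obtain ⟨V, hxV, hV⟩ := exists_affine_mem_le U x hx
    refine ⟨V, hV, hxV, ?_⟩
    rw [(h V hV).2]
    exact Ideal.mem_span_singleton_self _)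
  have hgen : IsGen t := isGen_of_genOn (ht.symm ▸ h)
  obtain ⟨c, hc⟩ := hgen.exists_eq s
  refine ⟨c, ?_⟩
  rw [← hs, hc, val_smul, ht]

/-- Cancellation of a generator. -/
theorem mul_right_cancel_genOn {X : Scheme.{u}} {D : X.IdealSheafData} {U : X.Opens} {e : Γ(X, U)} (h : GenOn D e)
    {a b : Γ(X, U)} (hab : a * e = b * e) : a = b := by
  obtain ⟨t, ht⟩ := exists_val_eq_of_local D U e (by
    intro x hx
    obtain ⟨V, hxV, hV⟩ := exists_affine_mem_le U x hx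
    refine ⟨V, hV, hxV, ?_⟩
    rw [(h V hV).2]
    exact Ideal.mem_span_singleton_self _)
  have hgen : IsGen t := isGen_of_genOn (ht.symm ▸ h)
  apply hgen.ext
  apply val_injective
  simp only [val_smul, ht]
  exact hab

theorem appLE_fromSpec {X : Scheme.{u}} {U : X.Opens} (hU : IsAffineOpen U) (h : ⊤ ≤ hU.fromSpec ⁻¹ᵁ U) :
    hU.fromSpec.appLE U ⊤ h = (Scheme.ΓSpecIso Γ(X, U)).inv := by
  rw [Scheme.Hom.appLE, hU.fromSpec_app_self, Category.assoc]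
  have h2 : (Spec Γ(X, U)).presheaf.map (eqToHom hU.fromSpec_preimage_self).op ≫
      (Spec Γ(X, U)).presheaf.map (homOfLE h).op = 𝟙 _ := by
    rw [← Functor.map_comp, ← CategoryTheory.Functor.map_id]
    congr 1
  rw [h2, Category.comp_id]

theorem appLE_top {X Y : Scheme.{u}} (f : X ⟶ Y) (h : (⊤ : X.Opens) ≤ f ⁻¹ᵁ ⊤) : f.appLE ⊤ ⊤ h = f.appTop := by
  rw [Scheme.Hom.appLE]
  have h2 : X.presheaf.map (homOfLE h).op = 𝟙 _ := by
    rw [← CategoryTheory.Functor.map_id]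
    congr 1
  exact (congrArg (fun s => f.app ⊤ ≫ s) h2).trans (Category.comp_id _)

/-- Functions on an affine open are determined on `fromSpec`. -/
theorem pl_fromSpec {X : Scheme.{u}} {U : X.Opens} (hU : IsAffineOpen U) {R : CommRingCat.{u}} (φ : Γ(X, U) ⟶ R)
    (h : ⊤ ≤ (Spec.map φ ≫ hU.fromSpec) ⁻¹ᵁ U) (a : Γ(X, U)) :
    pl (Spec.map φ ≫ hU.fromSpec) h a = (Scheme.ΓSpecIso R).inv.hom (φ.hom a) := by
  have h0 : (⊤ : (Spec Γ(X, U)).Opens) ≤ hU.fromSpec ⁻¹ᵁ U := le_of_eq hU.fromSpec_preimage_self.symm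
  have h0' : (⊤ : (Spec R).Opens) ≤ Spec.map φ ⁻¹ᵁ ⊤ := fun _ _ => trivial
  have h1 : (Spec.map φ ≫ hU.fromSpec).appLE U ⊤ h = φ ≫ (Scheme.ΓSpecIso R).inv := by
    rw [Scheme.ΓSpecIso_inv_naturality, ← Scheme.Hom.appLE_comp_appLE (Spec.map φ) hU.fromSpec U ⊤ ⊤ h0 h0',
      appLE_fromSpec, appLE_top]
  exact congr($h1 a)

section

variable {X S Z : Scheme.{u}} (π : X ⟶ S) {τ : X ⟶ X} (hτπ : τ ≫ π = π)

include hτπ in
theorem le_pre (V : S.Opens) : π ⁻¹ᵁ V ≤ τ ⁻¹ᵁ π ⁻¹ᵁ V := by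
  rw [← Scheme.Hom.comp_preimage, hτπ]

/-- The action of `τ` on functions on `π⁻¹ V`. -/
noncomputable def tq (V : S.Opens) : Γ(X, π ⁻¹ᵁ V) →+* Γ(X, π ⁻¹ᵁ V) := pl τ (le_pre π hτπ V)

theorem tq_fa (V : S.Opens) (a : Γ(S, V)) : tq π hτπ V (fa π V a) = fa π V a := by
  rw [tq, ← pl_eq_fa, pl_pl, pl_congr hτπ]

theorem ores_tq {U V : S.Opens} (hV : V ≤ U) (a : Γ(X, π ⁻¹ᵁ U)) :
    ores (π.preimage_mono hV) (tq π hτπ U a) = tq π hτπ V (ores (π.preimage_mono hV) a) := by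
  rw [tq, tq, ores_pl, pl_ores]

theorem tq_tq (hττ : τ ≫ τ = 𝟙 X) (V : S.Opens) (a : Γ(X, π ⁻¹ᵁ V)) : tq π hτπ V (tq π hτπ V a) = a := by
  rw [tq, pl_pl, pl_congr hττ, pl_id, ores_refl]

variable (i : Z ⟶ X) [IsClosedImmersion i] (hi : i ≫ τ = i)
  (hfix : ∀ (T : Scheme.{u}) (t : T ⟶ X), t ≫ τ = t → ∃ t' : T ⟶ Z, t' ≫ i = t)

omit [IsClosedImmersion i] in
include hi in
theorem pl_tq {V : S.Opens} {W : Z.Opens} (hW : W ≤ i ⁻¹ᵁ (π ⁻¹ᵁ V)) (a : Γ(X, π ⁻¹ᵁ V)) :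
    pl i hW (tq π hτπ V a) = pl i hW a := by
  rw [tq, pl_pl, pl_congr hi]

omit [IsClosedImmersion i] in
include hi in
/-- The difference vanishes on the fixed scheme. -/
theorem sub_tq_mem [QuasiCompact i] {V : S.Opens} (a : Γ(X, π ⁻¹ᵁ V)) (W : X.affineOpens) (hW : W.1 ≤ π ⁻¹ᵁ V) :
    ores hW (a - tq π hτπ V a) ∈ i.ker.ideal W := by
  rw [Scheme.Hom.ker_apply, RingHom.mem_ker]
  change fa i W.1 (ores hW (a - tq π hτπ V a)) = 0
  rw [← pl_eq_fa, pl_ores, map_sub, pl_tq π hτπ i hi, sub_self]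

include hi hfix in
/-- The ideal of the fixed scheme. -/
theorem ideal_fix [IsAffineHom π] {V : S.Opens} (hV : IsAffineOpen V) :
    i.ker.ideal ⟨π ⁻¹ᵁ V, hV.preimage π⟩ = Ideal.span (Set.range fun a => a - tq π hτπ V a) := by
  have hU : IsAffineOpen (π ⁻¹ᵁ V) := hV.preimage π
  apply le_antisymm
  · intro a ha
    rw [Scheme.Hom.ker_apply, RingHom.mem_ker] at ha
    set J : Ideal Γ(X, π ⁻¹ᵁ V) := Ideal.span (Set.range fun a => a - tq π hτπ V a) with hJ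
    let φ : Γ(X, π ⁻¹ᵁ V) ⟶ CommRingCat.of (Γ(X, π ⁻¹ᵁ V) ⧸ J) := CommRingCat.ofHom (Ideal.Quotient.mk J)
    have h1 : τ.appLE (π ⁻¹ᵁ V) (π ⁻¹ᵁ V) (le_pre π hτπ V) ≫ φ = φ := by
      ext x
      have h2 : Ideal.Quotient.mk J (x - tq π hτπ V x) = 0 :=
        Ideal.Quotient.eq_zero_iff_mem.2 (Ideal.subset_span ⟨x, rfl⟩)
      rw [map_sub, sub_eq_zero] at h2
      exact h2.symm
    have h3 : (Spec.map φ ≫ hU.fromSpec) ≫ τ = Spec.map φ ≫ hU.fromSpec := by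
      rw [Category.assoc, ← IsAffineOpen.SpecMap_appLE_fromSpec τ hU hU (le_pre π hτπ V), ← Category.assoc,
        ← Spec.map_comp, h1]
    obtain ⟨t', ht'⟩ := hfix _ _ h3
    have hle : (⊤ : (Spec (CommRingCat.of (Γ(X, π ⁻¹ᵁ V) ⧸ J))).Opens) ≤
        (Spec.map φ ≫ hU.fromSpec) ⁻¹ᵁ (π ⁻¹ᵁ V) := by
      intro x _
      have : (Spec.map φ ≫ hU.fromSpec) x ∈ hU.fromSpec.opensRange := ⟨Spec.map φ x, rfl⟩
      rwa [hU.opensRange_fromSpec] at this
    have hle' : ⊤ ≤ t' ⁻¹ᵁ (i ⁻¹ᵁ (π ⁻¹ᵁ V)) := by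
      rw [← Scheme.Hom.comp_preimage, ht']
      exact hle
    have h4 : pl (Spec.map φ ≫ hU.fromSpec) hle a = 0 := by
      rw [pl_congr ht'.symm hle a]
      rw [← pl_pl t' i (le_refl _) hle', pl_eq_fa]
      have h8 : fa i (π ⁻¹ᵁ V) a = 0 := ha
      rw [h8, map_zero]
    rw [pl_fromSpec hU φ hle] at h4
    have h5 : φ.hom a = 0 := by
      have h6 := congrArg (Scheme.ΓSpecIso (CommRingCat.of (Γ(X, π ⁻¹ᵁ V) ⧸ J))).hom.hom h4
      rw [map_zero] at h6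
      rw [← h6]
      exact congr($((Scheme.ΓSpecIso (CommRingCat.of (Γ(X, π ⁻¹ᵁ V) ⧸ J))).inv_hom_id) (φ.hom a)).symm
    exact Ideal.Quotient.eq_zero_iff_mem.1 h5
  · rw [Ideal.span_le]
    rintro _ ⟨a, rfl⟩
    have := sub_tq_mem π hτπ i hi a ⟨π ⁻¹ᵁ V, hV.preimage π⟩ le_rfl
    rwa [ores_refl] at this

include hi hfix in
theorem exists_local_gen [IsAffineHom π] (hD : BlowUp.IsEffCartierIdeal i.ker) {V : S.Opens} (hV : IsAffineOpen V)
    (x : X) (hx : x ∈ π ⁻¹ᵁ V) : ∃ (a : Γ(X, π ⁻¹ᵁ V)) (W : X.affineOpens) (hW : W.1 ≤ π ⁻¹ᵁ V), x ∈ W.1 ∧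
      GenOn i.ker (ores hW (a - tq π hτπ V a)) := by
  obtain ⟨U0, g0, hx0, hg0⟩ := exists_genOn hD x
  obtain ⟨W, hxW, hW⟩ := exists_affine_mem_le (U0.1 ⊓ π ⁻¹ᵁ V) x ⟨hx0, hx⟩
  have hWU : W.1 ≤ U0.1 := hW.trans inf_le_left
  have hWV : W.1 ≤ π ⁻¹ᵁ V := hW.trans inf_le_right
  set g : Γ(X, W.1) := ores hWU g0 with hg
  have hgg : GenOn i.ker g := hg0.res hWU
  obtain ⟨hg1, hg2⟩ := hgg W le_rfl
  rw [ores_refl] at hg1 hg2
  by_contra hcon
  push Not at hcon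
  have key : ∀ a : Γ(X, π ⁻¹ᵁ V), ∃ d, ores hWV (a - tq π hτπ V a) = d * g ∧ x ∉ X.basicOpen d := by
    intro a
    have h1 := sub_tq_mem π hτπ i hi a W hWV
    rw [hg2, Ideal.mem_span_singleton'] at h1
    obtain ⟨d, hd⟩ := h1
    refine ⟨d, hd.symm, fun hxd => ?_⟩
    obtain ⟨W', hxW', hW'⟩ := exists_affine_mem_le (X.basicOpen d) x hxd
    have hle : W'.1 ≤ W.1 := hW'.trans (X.basicOpen_le d)
    refine hcon a W' (hle.trans hWV) hxW' ?_
    rw [← ores_ores hWV hle, ← hd, map_mul]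
    refine GenOn_unit_mul (hgg.res hle) ?_
    have h2 : ores hle d = ores hW' (ores (X.basicOpen_le d) d) := by rw [ores_ores]
    rw [h2]
    exact (RingedSpace.isUnit_res_basicOpen X.toRingedSpace d).map (ores hW')
  have h3 : g ∈ i.ker.ideal W := by
    rw [hg2]
    exact Ideal.mem_span_singleton_self _
  rw [← i.ker.map_ideal (U := W) (V := ⟨π ⁻¹ᵁ V, hV.preimage π⟩) hWV, ideal_fix π hτπ i hi hfix hV, Ideal.map_span] at h3
  have h4 : ∀ r ∈ Ideal.span ((X.presheaf.map (homOfLE hWV).op).hom '' (Set.range fun a => a - tq π hτπ V a)),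
      ∃ d, r = d * g ∧ x ∉ X.basicOpen d := by
    intro r hr
    induction hr using Submodule.span_induction with
    | mem r hr =>
      obtain ⟨_, ⟨a, rfl⟩, rfl⟩ := hr
      exact key a
    | zero => exact ⟨0, by rw [zero_mul], by rw [Scheme.basicOpen_zero]; exact fun h => h⟩
    | add r s _ _ hr hs =>
      obtain ⟨d, rfl, hd⟩ := hr
      obtain ⟨d', rfl, hd'⟩ := hs
      refine ⟨d + d', by rw [add_mul], fun h => ?_⟩
      rcases Scheme.basicOpen_add_le X d d' h with h | h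
      · exact hd h
      · exact hd' h
    | smul b r _ hr =>
      obtain ⟨d, rfl, hd⟩ := hr
      refine ⟨b * d, by rw [smul_eq_mul, mul_assoc], fun h => hd ?_⟩
      rw [Scheme.basicOpen_mul] at h
      exact h.2
  obtain ⟨d, hd, hxd⟩ := h4 g h3
  have h5 : d = 1 := by
    have : (d - 1) * g = 0 := by rw [sub_mul, one_mul, ← hd, sub_self]
    exact sub_eq_zero.1 (hg1.2 _ this)
  apply hxd
  rw [h5, Scheme.basicOpen_of_isUnit _ isUnit_one]
  exact hxW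

end

section Tau

variable {X S Z : Scheme.{u}} {τ : X ⟶ X} (hττ : τ ≫ τ = 𝟙 X) (i : Z ⟶ X) [IsClosedImmersion i] (hi : i ≫ τ = i)

omit [IsClosedImmersion i] in
include hττ hi in
theorem comap_ker : i.ker.comap τ = i.ker := by
  have h1 : i.ker.comap τ ≤ i.ker := by
    rw [← Scheme.IdealSheafData.le_map_iff_comap_le, Scheme.IdealSheafData.map_ker, hi]
  apply le_antisymm h1
  have h2 := Scheme.IdealSheafData.comap_mono τ h1
  have h3 : i.ker = (i.ker.comap τ).comap τ := by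
    rw [← Scheme.IdealSheafData.comap_comp, hττ, Scheme.IdealSheafData.comap_id]
  exact h3.le.trans h2

include hττ hi in
theorem genOn_tau (W : X.affineOpens) {a : Γ(X, W.1)} (h : GenOn i.ker a) :
    GenOn i.ker (pl τ (le_refl (τ ⁻¹ᵁ W.1)) a) := by
  have hiso : IsIso τ := ⟨τ, hττ, hττ⟩
  have h1 := h W le_rfl
  rw [ores_refl] at h1
  refine genOn_of_affine (U := ⟨τ ⁻¹ᵁ W.1, W.2.preimage τ⟩) ?_ ?_
  · have h2 : W.1 ≤ τ ⁻¹ᵁ (τ ⁻¹ᵁ W.1) := by
      rw [← Scheme.Hom.comp_preimage, hττ]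
      exact le_rfl
    have key : ∀ c : Γ(X, τ ⁻¹ᵁ W.1), c * pl τ (le_refl (τ ⁻¹ᵁ W.1)) a = 0 → c = 0 := by
      intro c hc
      have h3 := congrArg (pl τ h2) hc
      rw [map_mul, map_zero, pl_pl, pl_congr hττ, pl_id, ores_refl] at h3
      have h4 := congrArg (pl τ (le_refl (τ ⁻¹ᵁ W.1))) (h1.1.2 _ h3)
      rw [pl_pl, pl_congr hττ, pl_id, ores_refl, map_zero] at h4
      exact h4
    rw [mem_nonZeroDivisors_iff_right]
    exact key
  · have h2 := Groth.Agent.Divis.IdealComap.ideal_comap i.ker τ W ⟨τ ⁻¹ᵁ W.1, W.2.preimage τ⟩ le_rfl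
    rw [comap_ker hττ i hi, h1.2, Ideal.map_span, Set.image_singleton] at h2
    exact h2

theorem tau_tau (hττ : τ ≫ τ = 𝟙 X) (x : X) : τ (τ x) = x := by
  rw [← Scheme.Hom.comp_apply, hττ]
  rfl

variable (π : X ⟶ S) (hτπ : τ ≫ π = π)
  (hfix : ∀ (T : Scheme.{u}) (t : T ⟶ X), t ≫ τ = t → ∃ t' : T ⟶ Z, t' ≫ i = t)
  (horb : ∀ x x' : X, π x = π x' → x' = x ∨ x' = τ x) (hcl : IsClosedMap π) (hsurj : Function.Surjective π)

include hττ hi hfix horb hcl hsurj in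
/-- The fixed scheme is defined by one anti-invariant function, locally on the quotient. -/
theorem exists_gen [IsAffineHom π] (hD : BlowUp.IsEffCartierIdeal i.ker) (s : S) :
    ∃ (V : S.Opens) (e : Γ(X, π ⁻¹ᵁ V)), s ∈ V ∧ tq π hτπ V e = -e ∧ GenOn i.ker e := by
  obtain ⟨x, rfl⟩ := hsurj s
  obtain ⟨V0, hxV0, -⟩ := exists_affine_mem_le (⊤ : S.Opens) (π x) trivial
  obtain ⟨a, W, hW, hxW, hg⟩ := exists_local_gen π hτπ i hi hfix hD V0.2 x hxV0
  set e0 := a - tq π hτπ V0.1 a with he0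
  have hte0 : tq π hτπ V0.1 e0 = -e0 := by
    rw [he0, map_sub, tq_tq π hτπ hττ, neg_sub]
  let W2 : X.Opens := W.1 ⊔ τ ⁻¹ᵁ W.1
  let F : Set S := π '' (W2 : Set X)ᶜ
  have hF : IsClosed F := hcl _ W2.2.isClosed_compl
  let V : S.Opens := V0.1 ⊓ ⟨Fᶜ, hF.isOpen_compl⟩
  have hVV : V ≤ V0.1 := inf_le_left
  have hτW : τ ⁻¹ᵁ W.1 ≤ π ⁻¹ᵁ V0.1 := (τ.preimage_mono hW).trans (by
    rw [← Scheme.Hom.comp_preimage, hτπ])
  have hVW : ∀ y ∈ π ⁻¹ᵁ V, y ∈ W2 := by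
    intro y hy
    by_contra hyn
    exact hy.2 ⟨y, hyn, rfl⟩
  refine ⟨V, ores (π.preimage_mono hVV) e0, ⟨hxV0, ?_⟩, ?_, ?_⟩
  · rintro ⟨y, hy, hyx⟩
    apply hy
    rcases horb x y hyx.symm with h | h
    · rw [h]; exact Or.inl hxW
    · refine Or.inr ?_
      change τ y ∈ W.1
      rw [h, tau_tau hττ]
      exact hxW
  · rw [← ores_tq π hτπ hVV, hte0, map_neg]
  · apply genOn_of_local
    intro y hy
    rcases hVW y hy with h | h
    · refine ⟨W.1 ⊓ π ⁻¹ᵁ V, inf_le_right, ⟨h, hy⟩, ?_⟩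
      have h1 := hg.res (inf_le_left : W.1 ⊓ π ⁻¹ᵁ V ≤ W.1)
      rw [ores_ores] at h1 ⊢
      exact h1
    · refine ⟨τ ⁻¹ᵁ W.1 ⊓ π ⁻¹ᵁ V, inf_le_right, ⟨h, hy⟩, ?_⟩
      have h1 := GenOn_neg ((genOn_tau hττ i hi W hg).res (inf_le_left : τ ⁻¹ᵁ W.1 ⊓ π ⁻¹ᵁ V ≤ τ ⁻¹ᵁ W.1))
      have h2 : pl τ (le_refl (τ ⁻¹ᵁ W.1)) (ores hW e0) = -ores hτW e0 := by
        rw [pl_ores, ← map_neg, ← hte0, tq, ores_pl]
      rw [h2, map_neg, neg_neg, ores_ores] at h1
      rw [ores_ores]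
      exact h1

variable (hinj : ∀ V : S.Opens, Function.Injective (fa π V))
  (hinv : ∀ (V : S.Opens) (x : Γ(X, π ⁻¹ᵁ V)), tq π hτπ V x = x → ∃ a, fa π V a = x)
  (h2 : ∀ V : S.Opens, IsUnit (2 : Γ(S, V)))

include hinj h2 in
theorem eq_zero_of_two {V : S.Opens} {a : Γ(S, V)} (h : fa π V a + fa π V a = 0) : a = 0 := by
  have h1 : fa π V (2 * a) = fa π V 0 := by rw [two_mul, map_add, h, map_zero]
  have h3 := hinj V h1
  exact ((h2 V).mul_right_eq_zero).1 h3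

include hinj hinv h2 hττ hi in
/-- `1, e` is a basis. -/
theorem pr_bijective {U : S.Opens} {e : Γ(X, π ⁻¹ᵁ U)} (he : tq π hτπ U e = -e) (hg : GenOn i.ker e)
    (V : S.Opens) (hV : V ≤ U) : Function.Bijective (pr π e V hV) := by
  have hg' : GenOn i.ker (ores (π.preimage_mono hV) e) := hg.res _
  set e' := ores (π.preimage_mono hV) e with he'
  have hte : tq π hτπ V e' = -e' := by rw [he', ← ores_tq π hτπ hV, he, map_neg]
  have hτpr : ∀ p, tq π hτπ V (pr π e V hV p) = fa π V p.1 - fa π V p.2 * e' := by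
    intro p
    rw [pr, map_add, map_mul, tq_fa, tq_fa, ← he', hte]
    ring
  constructor
  · have key : ∀ p, pr π e V hV p = 0 → p = 0 := by
      intro p hp
      have h3 := hτpr p
      rw [hp, map_zero] at h3
      rw [pr, ← he'] at hp
      have h4 : p.1 = 0 := eq_zero_of_two π hinj h2 (by linear_combination hp - h3)
      rw [h4, map_zero, zero_add] at hp
      have h5 : fa π V p.2 * e' = 0 * e' := by rw [hp, zero_mul]
      have h6 := mul_right_cancel_genOn hg' h5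
      have h7 : p.2 = 0 := hinj V (h6.trans (map_zero _).symm)
      exact Prod.ext h4 h7
    intro p p' hpp
    have h1 : pr π e V hV (p - p') = 0 := by
      have : pr π e V hV (p - p') = pr π e V hV p - pr π e V hV p' := by
        simp only [pr, Prod.fst_sub, Prod.snd_sub, map_sub]; ring
      rw [this, hpp, sub_self]
    exact sub_eq_zero.1 (key _ h1)
  · intro a
    obtain ⟨v, hv⟩ := h2 V
    have hv2 : fa π V (v : Γ(S, V)) * fa π V ((v⁻¹ : Γ(S, V)ˣ) : Γ(S, V)) = 1 := by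
      rw [← map_mul, v.mul_inv, map_one]
    have hv3 : fa π V (v : Γ(S, V)) = 2 := by rw [hv, map_ofNat]
    rw [hv3] at hv2
    set w := fa π V ((v⁻¹ : Γ(S, V)ˣ) : Γ(S, V)) with hw
    have hτw : tq π hτπ V w = w := tq_fa π hτπ V _
    -- the anti-invariant part
    obtain ⟨c, hc⟩ := exists_mul_of_genOn hg' (w * (a - tq π hτπ V a)) (fun W hW => by
      rw [map_mul]
      exact Ideal.mul_mem_left _ _ (sub_tq_mem π hτπ i hi a W hW))
    have hc' : tq π hτπ V c = c := by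
      apply mul_right_cancel_genOn hg'
      have h3 := congrArg (tq π hτπ V) hc
      rw [map_mul, map_mul, map_sub, tq_tq π hτπ hττ, hτw, hte] at h3
      linear_combination h3 + hc
    obtain ⟨b, hb⟩ := hinv V c hc'
    obtain ⟨b', hb'⟩ := hinv V (w * (a + tq π hτπ V a)) (by
      rw [map_mul, map_add, tq_tq π hτπ hττ, hτw]
      ring)
    refine ⟨(b', b), ?_⟩
    rw [pr, ← he', hb, hb', ← hc]
    linear_combination a * hv2

include hinj h2 in
/-- Transition functions between anti-invariant generators. -/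
theorem trans_eq {V : S.Opens} {e e' : Γ(X, π ⁻¹ᵁ V)} (he : tq π hτπ V e = -e) (he' : tq π hτπ V e' = -e')
    {a b : Γ(S, V)} (h : e = fa π V b + fa π V a * e') : b = 0 := by
  apply eq_zero_of_two π hinj h2
  have h1 := congrArg (tq π hτπ V) h
  rw [map_add, map_mul, tq_fa, tq_fa, he, he'] at h1
  linear_combination -h - h1

end Tau

end K980.InvQuot
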