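import Groth.Agent.SymSq.K980.InvQuot
import Groth.Agent.HypSq.K980.NumC

/-!
# Line bundles on the quotient by an involution

`QData π τ i`: `π : X ⟶ S` is the quotient by the involution `τ` with fixed scheme `i : Z ⟶ X`, an effective Cartier
divisor, two invertible.

* `bc`: the class of the cokernel of `O_S ⟶ π_* O_X`; `pull_bc`: its pullback is the class of the ideal of `Z`.
* `exists_split_seq`: `0 → c → π_* π^* c → c · bc → 0` splits.
* `van_left`, `van_right`, `hd_add`, `chi_add`.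
-/

set_option autoImplicit false
universe u

open CategoryTheory CategoryTheory.Limits AlgebraicGeometry Opposite TopologicalSpace

namespace K980.QuotSeq

open Groth.Agent Groth.Agent.Fdesc.LocGen
open K980.DCover K980.Graph K980.CokerQ K980.InvQuot K980.PicNum
open Groth.Agent.Picfga.LineHom Groth.Agent.Dix.IdealModCartier Groth.Agent.Grpsch.PicGrp

variable {X S Z : Scheme.{u}}

/-- Quotient by an involution with Cartier fixed scheme. -/
structure QData (π : X ⟶ S) (τ : X ⟶ X) (i : Z ⟶ X) : Prop where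
  hτπ : τ ≫ π = π
  hττ : τ ≫ τ = 𝟙 X
  hi : i ≫ τ = i
  hfix : ∀ (T : Scheme.{u}) (t : T ⟶ X), t ≫ τ = t → ∃ t' : T ⟶ Z, t' ≫ i = t
  horb : ∀ x x' : X, π x = π x' → x' = x ∨ x' = τ x
  hcl : IsClosedMap π
  hsurj : Function.Surjective π
  aff : IsAffineHom π
  imm : IsClosedImmersion i
  hD : PicF.IsInvertible (ClSub.idealMod i.ker)
  hinj : ∀ V : S.Opens, Function.Injective (fa π V)
  hinv : ∀ (V : S.Opens) (x : Γ(X, π ⁻¹ᵁ V)), tq π hτπ V x = x → ∃ a, fa π V a = x
  h2 : ∀ V : S.Opens, IsUnit (2 : Γ(S, V))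

variable {π : X ⟶ S} {τ : X ⟶ X} {i : Z ⟶ X} (H : QData π τ i)

include H in
theorem exists_cover : ∃ (U : S → S.Opens) (e : ∀ s, Γ(X, π ⁻¹ᵁ U s)), (∀ s, s ∈ U s) ∧
    (∀ s, tq π H.hτπ (U s) (e s) = -(e s)) ∧ (∀ s, GenOn i.ker (e s)) := by
  have := H.aff
  have := H.imm
  choose U e h1 h2 h3 using fun s => exists_gen H.hττ i H.hi π H.hτπ H.hfix H.horb H.hcl H.hsurj
    (isEffCartierIdeal_of_isInvertible H.hD) s
  exact ⟨U, e, h1, h2, h3⟩

/-- A cover of the quotient. -/
noncomputable def U (s : S) : S.Opens := Classical.choose (exists_cover H) s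

/-- The anti-invariant generators. -/
noncomputable def e (s : S) : Γ(X, π ⁻¹ᵁ U H s) := Classical.choose (Classical.choose_spec (exists_cover H)) s

theorem mem_U (s : S) : s ∈ U H s := (Classical.choose_spec (Classical.choose_spec (exists_cover H))).1 s

theorem tq_e (s : S) : tq π H.hτπ (U H s) (e H s) = -(e H s) :=
  (Classical.choose_spec (Classical.choose_spec (exists_cover H))).2.1 s

theorem genOn_e (s : S) : GenOn i.ker (e H s) := (Classical.choose_spec (Classical.choose_spec (exists_cover H))).2.2 s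

theorem iSup_U : ⨆ s, U H s = ⊤ := top_le_iff.1 fun s _ => Opens.mem_iSup.2 ⟨s, mem_U H s⟩

theorem hy (s : S) (V : S.Opens) (hV : V ≤ U H s) : Function.Bijective (pr π (e H s) V hV) := by
  have := H.imm
  exact pr_bijective H.hττ i H.hi π H.hτπ H.hinj H.hinv H.h2 (tq_e H s) (genOn_e H s) V hV

/-- The class of `Q`. -/
noncomputable def bc : Pic S := mk (Q π) (isInvertible_Q π (U H) (iSup_U H) (e H) (hy H))

include H in
theorem nonempty_iso : Nonempty ((Scheme.Modules.pullback π).obj (Q π) ≅ ClSub.idealMod i.ker) := by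
  have hn : ∀ s, ∃ n : Γ(ClSub.idealMod i.ker, π ⁻¹ᵁ U H s), val _ n = e H s := fun s => by
    refine exists_val_eq_of_local _ _ _ ?_
    intro x hx
    obtain ⟨V, hxV, hV⟩ := exists_affine_mem_le _ x hx
    refine ⟨V, hV, hxV, ?_⟩
    rw [(genOn_e H s V hV).2]
    exact Ideal.mem_span_singleton_self _
  choose n hn using hn
  have gn : ∀ s, IsGen (n s) := fun s => isGen_of_genOn ((hn s).symm ▸ genOn_e H s)
  have gq : ∀ s, IsGen (q π (U H) (e H) s) := isGen_q π (U H) (iSup_U H) (e H) (hy H)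
  have hsup : ⨆ s, π ⁻¹ᵁ U H s = ⊤ := by
    have h1 := congr(π ⁻¹ᵁ $(iSup_U H))
    rw [Scheme.Hom.preimage_iSup] at h1
    exact h1
  obtain ⟨φ, -⟩ := exists_iso (L := (Scheme.Modules.pullback π).obj (Q π))
    (N := ClSub.idealMod i.ker) hsup
    (e := fun s => pullSec π (q π (U H) (e H) s)) (fun s => (gq s).pullSec π) (n := n)
    (trans_of_inf (fun s => (gq s).pullSec π) (by
      intro s t
      obtain ⟨a, b, hab, hq⟩ := exists_trans π (U H) (e H) s t (U H s ⊓ U H t) inf_le_left inf_le_right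
        (hy H t _ _)
      refine ⟨fa π (U H s ⊓ U H t) a, ?_, ?_⟩
      · have h1 := congr(pullSec π $hq)
        rw [pullSec_smul, ← res_pullSec, ← res_pullSec] at h1
        exact h1
      · apply val_injective
        rw [val_smul, val_res, val_res, hn, hn]
        have hb : b = 0 := by
          refine trans_eq π H.hτπ H.hinj H.h2 ?_ ?_ hab
          · rw [← ores_tq π H.hτπ (inf_le_left : U H s ⊓ U H t ≤ _), tq_e, map_neg]
          · rw [← ores_tq π H.hτπ (inf_le_right : U H s ⊓ U H t ≤ _), tq_e, map_neg]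
        rw [hb, map_zero, zero_add] at hab
        exact hab)) gn
  exact ⟨φ⟩

theorem pull_bc : pull π (bc H) = mk (ClSub.idealMod i.ker) H.hD := by
  rw [bc, pull_mk]
  obtain ⟨e⟩ := nonempty_iso H
  exact mk_congr e

section Ret

include H in
theorem exists_ret (V : S.Opens) (x : Γ(X, π ⁻¹ᵁ V)) :
    ∃ a : Γ(S, V), fa π V a + fa π V a = x + tq π H.hτπ V x := by
  obtain ⟨v, hv⟩ := H.h2 V
  have hv2 : fa π V (v : Γ(S, V)) * fa π V ((v⁻¹ : Γ(S, V)ˣ) : Γ(S, V)) = 1 := by
    rw [← map_mul, v.mul_inv, map_one]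
  have hv3 : fa π V (v : Γ(S, V)) = 2 := by rw [hv, map_ofNat]
  rw [hv3] at hv2
  obtain ⟨a, ha⟩ := H.hinv V (fa π V ((v⁻¹ : Γ(S, V)ˣ) : Γ(S, V)) * (x + tq π H.hτπ V x)) (by
    rw [map_mul, map_add, tq_tq π H.hτπ H.hττ, tq_fa]
    ring)
  refine ⟨a, ?_⟩
  rw [ha]
  linear_combination (x + tq π H.hτπ V x) * hv2

/-- Half the trace. -/
noncomputable def rt (V : S.Opens) (x : Γ(X, π ⁻¹ᵁ V)) : Γ(S, V) := Classical.choose (exists_ret H V x)

theorem rt_spec (V : S.Opens) (x : Γ(X, π ⁻¹ᵁ V)) :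
    fa π V (rt H V x) + fa π V (rt H V x) = x + tq π H.hτπ V x := Classical.choose_spec (exists_ret H V x)

theorem eq_rt {V : S.Opens} {x : Γ(X, π ⁻¹ᵁ V)} {a : Γ(S, V)} (h : fa π V a + fa π V a = x + tq π H.hτπ V x) :
    rt H V x = a := by
  rw [← sub_eq_zero]
  apply eq_zero_of_two π H.hinj H.h2
  have h1 := rt_spec H V x
  rw [map_sub]
  linear_combination h1 - h

/-- The retraction `π_* O_X ⟶ O_S`. -/
noncomputable def ret : PO π ⟶ Coh.structureModule S :=
  mkHom (fun V => AddMonoidHom.mk' (fun x => ofFun (rt H V ((toPO π).symm x))) (fun x y => by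
      rw [← map_add]
      congr 1
      apply eq_rt
      have h1 := rt_spec H V ((toPO π).symm x)
      have h2 := rt_spec H V ((toPO π).symm y)
      rw [map_add, map_add, map_add]
      linear_combination h1 + h2))
    (fun V a x => by
      change ofFun (rt H V (fa π V a * (toPO π).symm x)) = ofFun (a * rt H V ((toPO π).symm x))
      congr 1
      apply eq_rt
      have h1 := rt_spec H V ((toPO π).symm x)
      rw [map_mul, map_mul, tq_fa]
      linear_combination fa π V a * h1)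
    (fun V W h x => by
      change ofFun (rt H W (ores (π.preimage_mono h) ((toPO π).symm x))) =
        ofFun (ores h (rt H V ((toPO π).symm x)))
      congr 1
      apply eq_rt
      have h1 := congrArg (ores (π.preimage_mono h)) (rt_spec H V ((toPO π).symm x))
      rw [map_add, map_add, ores_tq π H.hτπ h, ores_fa] at h1
      exact h1)

theorem unitToPush_ret : ClSub.unitToPush π ≫ ret H = 𝟙 _ := by
  ext V a
  obtain ⟨a, rfl⟩ := (ofFun (X := S) (U := V)).surjective a
  change ofFun (rt H V (fa π V a)) = ofFun a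
  congr 1
  apply eq_rt
  rw [tq_fa]

end Ret

section Seq

theorem exists_split_seq (c : Pic S) : ∃ T : ShortComplex S.Modules, T.ShortExact ∧
    (∃ r : T.X₂ ⟶ T.X₁, T.f ≫ r = 𝟙 _) ∧ Nonempty (T.X₁ ≅ rep c) ∧
      Nonempty (T.X₂ ≅ (Scheme.Modules.pushforward π).obj (rep (pull π c))) ∧
      Nonempty (T.X₃ ≅ rep (c * bc H)) := by
  have hS := CokerQ.shortExact π (U H) (iSup_U H) (e H) (hy H)
  have hb := VarietyB.TensCoh.HasBases.of_isFinLocFree (isFinLocFree (rep_inv c))
  have h1 := VarietyB.ExactLoc.tensor_shortExact hb _ hS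
  have hQ := isInvertible_Q π (U H) (iSup_U H) (e H) (hy H)
  have h2 : Nonempty (CohB1.tensorMod (rep c) (Q π) ≅ rep (c * bc H)) := by
    rw [← mk_eq_iff (isInvertible_tensorMod (rep_inv c) hQ)
      (rep_inv _), ← mk_mul_mk (rep_inv c) hQ, mk_rep, mk_rep]
    rfl
  have h3 : Nonempty ((Scheme.Modules.pullback π).obj (rep c) ≅ rep (pull π c)) := by
    rw [← mk_eq_iff (isInvertible_pullback π (rep_inv c)) (rep_inv _), ← pull_mk π (rep_inv c), mk_rep, mk_rep]
  obtain ⟨e3⟩ := h3
  refine ⟨_, h1, ⟨(DCoh.tensorBi.obj (rep c)).map (ret H), ?_⟩, ⟨Ega2.Tens.runit _⟩,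
    ⟨VarietyB.ProjForm.projIsoUnit π hb ≪≫ (Scheme.Modules.pushforward π).mapIso e3⟩, h2⟩
  exact ((DCoh.tensorBi.obj (rep c)).map_comp _ _).symm.trans
    ((congrArg (DCoh.tensorBi.obj (rep c)).map (unitToPush_ret H)).trans ((DCoh.tensorBi.obj (rep c)).map_id _))

open Groth.Agent.VarietyA.EulerLES Groth.Agent.VarietyA.EulerAdd

section Split

variable (T : ShortComplex S.Modules) (hT : T.ShortExact) (r : T.X₂ ⟶ T.X₁) (hr : T.f ≫ r = 𝟙 _)

include hr in
theorem mapΓ_injective (n : ℕ) : Function.Injective (mapΓ T.f n) := by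
  intro a b hab
  have h := congrArg (mapΓ r n) hab
  rw [← LinearMap.comp_apply, ← LinearMap.comp_apply, ← mapΓ_comp, hr, mapΓ_id] at h
  exact h

include hT hr in
theorem mapΓ_surjective (n : ℕ) : Function.Surjective (mapΓ T.g n) := by
  intro x
  refine (exact₃ T hT n (n + 1) rfl x).1 ?_
  apply mapΓ_injective T r hr (n + 1)
  rw [map_zero]
  exact (exact₁ T hT n (n + 1) rfl _).2 ⟨x, rfl⟩

variable (k : Type u) [Field k] [S.Over (Spec (CommRingCat.of k))]

include hT hr in
theorem finrank_split (n : ℕ) (hfin : Module.Finite k (Coh.HH S T.X₂ n)) :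
    Module.finrank k (Coh.HH S T.X₂ n) =
      Module.finrank k (Coh.HH S T.X₁ n) + Module.finrank k (Coh.HH S T.X₃ n) := by
  have h1 : Function.Injective (mapA k T.f n) := mapΓ_injective T r hr n
  have h2 : Function.Surjective (mapA k T.g n) := mapΓ_surjective T hT r hr n
  have h3 := exactA₂ k T hT n
  have h4 := LinearMap.finrank_range_add_finrank_ker (mapA k T.g n)
  rw [LinearMap.range_eq_top.2 h2, finrank_top, LinearMap.exact_iff.1 h3, LinearMap.finrank_range_of_inj h1] at h4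
  omega

end Split

variable (k : Type u) [Field k] [X.Over (Spec (CommRingCat.of k))] [S.Over (Spec (CommRingCat.of k))]
  (hk : π ≫ (S ↘ Spec (CommRingCat.of k)) = X ↘ Spec (CommRingCat.of k))

include H hk in
theorem van_left (c : Pic S) (n : ℕ) (h : Van (pull π c) n) : Van c n := by
  have := H.aff
  obtain ⟨T, hT, ⟨r, hr⟩, ⟨e1⟩, ⟨e2⟩, ⟨e3⟩⟩ := exists_split_seq H c
  have h2 : Subsingleton (Coh.HH S T.X₂ n) :=
    (subsingleton_congr e2 n).2 ((NumC.subsingleton_push_iff π k hk (pull π c) n).2 h)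
  exact (subsingleton_congr e1 n).1 (mapΓ_injective T r hr n).subsingleton

include hk in
theorem van_right (c : Pic S) (n : ℕ) (h : Van (pull π c) n) : Van (c * bc H) n := by
  have := H.aff
  obtain ⟨T, hT, ⟨r, hr⟩, ⟨e1⟩, ⟨e2⟩, ⟨e3⟩⟩ := exists_split_seq H c
  have h2 : Subsingleton (Coh.HH S T.X₂ n) :=
    (subsingleton_congr e2 n).2 ((NumC.subsingleton_push_iff π k hk (pull π c) n).2 h)
  exact (subsingleton_congr e3 n).1 (mapΓ_surjective T hT r hr n).subsingleton

include hk in
theorem hd_add [IsProper (X ↘ Spec (CommRingCat.of k))] (c : Pic S) (n : ℕ) :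
    hd k (pull π c) n = hd k c n + hd k (c * bc H) n := by
  have := H.aff
  obtain ⟨T, hT, ⟨r, hr⟩, ⟨e1⟩, ⟨e2⟩, ⟨e3⟩⟩ := exists_split_seq H c
  have hfin : Module.Finite k (Coh.HH S T.X₂ n) := by
    obtain ⟨e⟩ := VarietyB.HHPush.exists_linearEquiv π k hk (rep (pull π c)) (isCoh (rep_inv _)).1 n
    have h0 : Module.Finite k (Coh.HH X (rep (pull π c)) n) := finite_hh k (isCoh (rep_inv _)) n
    have h1 : Module.Finite k (Coh.HH S ((Scheme.Modules.pushforward π).obj (rep (pull π c))) n) :=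
      Module.Finite.equiv e.symm
    exact Module.Finite.equiv (CurvesA.HHMap.equivOver k e2 n).symm
  have h := finrank_split T hT r hr k n hfin
  rw [CurvesC.DegIso.finrank_congr k e1, CurvesC.DegIso.finrank_congr k e2,
    CurvesC.DegIso.finrank_congr k e3, NumC.finrank_push π k hk] at h
  exact h

include hk in
theorem chi_add [IsFinite π] [IsProper (S ↘ Spec (CommRingCat.of k))] (c : Pic S) :
    chi k (pull π c) = chi k c + chi k (c * bc H) := by
  obtain ⟨T, hT, ⟨r, hr⟩, ⟨e1⟩, ⟨e2⟩, ⟨e3⟩⟩ := exists_split_seq H c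
  have h := Groth.Agent.S1524.result k S T hT
    (Groth.Agent.CohqB.LocalQC.isCoh_of_iso e1.symm (isCoh (rep_inv _)))
    (Groth.Agent.CohqB.LocalQC.isCoh_of_iso e2.symm (isCoh_push π (isCoh (rep_inv _))))
    (Groth.Agent.CohqB.LocalQC.isCoh_of_iso e3.symm (isCoh (rep_inv _)))
  rw [Groth.Agent.CurvesC.DegIso.euler_congr k e1, Groth.Agent.CurvesC.DegIso.euler_congr k e2,
    Groth.Agent.CurvesC.DegIso.euler_congr k e3,
    VarietyB.HHPush.euler_push π k hk _ (isCoh (rep_inv _)).1] at h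
  exact h

end Seq

end K980.QuotSeq
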