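import Groth.Agent.SymSq.K980.QuotSeq
import Groth.Agent.HypSq.K980.BoxNum
import Groth.Agent.Fga.EulerLEAdd
import Groth.Agent.S3230
import Groth.Agent.S11146

/-!
# Riemann-Roch on the quotient by an involution

* `exists_poly`: `n ↦ χ(c b^n)` is a polynomial (Snapper).
* `poly_key`: a polynomial is determined by its second differences of step two, up to a constant.
* `chi_quot`: `8 χ(S, c) = 4 χ(X, π^* c) - deg (N^{-1}|Z) + 2 deg (c|Z) + 2 χ(O_Z)`.
* `two_mul_int`: `2 (c . d)_S = (π^* c . π^* d)_X`.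
-/

set_option autoImplicit false
universe u

open CategoryTheory CategoryTheory.Limits AlgebraicGeometry Opposite TopologicalSpace

namespace K980.Snap

open Groth.Agent Groth.Agent.Grpsch.PicGrp K980.PicNum K980.QuotSeq
open Groth.Agent.Fdesc.LocGen (isInvertible_tensorMod isInvertible_pullback isInvertible_tensorPow)

theorem exists_dim_le (k : Type u) [Field k] (S : Scheme.{u}) [S.Over (Spec (CommRingCat.of k))]
    [IsProper (S ↘ Spec (CommRingCat.of k))] : ∃ d : ℕ, topologicalKrullDim S ≤ d := by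
  have h1 : ringKrullDim k < ⊤ := by
    rw [ringKrullDim_eq_zero_of_field]
    exact WithBot.coe_lt_coe.2 (ENat.natCast_lt_top 0)
  have h2 := Groth.Agent.S11146.topologicalKrullDim_lt_top h1 (S ↘ Spec (CommRingCat.of k))
  rcases h : topologicalKrullDim S with _ | d
  · exact ⟨0, bot_le⟩
  · rw [h] at h2
    have h3 : d ≠ ⊤ := fun h4 => by
      rw [h4] at h2
      exact lt_irrefl _ h2
    lift d to ℕ using h3
    exact ⟨d, le_rfl⟩

theorem exists_poly (k : Type u) [Field k] {S : Scheme.{u}} [S.Over (Spec (CommRingCat.of k))]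
    [IsProper (S ↘ Spec (CommRingCat.of k))] (c b : Pic S) :
    ∃ P : Polynomial ℚ, ∀ n : ℕ, (chi k (c * b ^ n) : ℚ) = P.eval (n : ℚ) := by
  obtain ⟨d, hd⟩ := exists_dim_le k S
  have hn : IsNoetherian S := by
    have : IsLocallyNoetherian S := LocallyOfFiniteType.isLocallyNoetherian (S ↘ Spec (CommRingCat.of k))
    have : CompactSpace S := QuasiCompact.compactSpace_of_compactSpace (S ↘ Spec (CommRingCat.of k))
    exact {}
  obtain ⟨P, -, hP⟩ := Groth.Agent.S3230.result k S d hd (fun _ : Fin 1 => rep b) (fun _ => rep_inv b) (rep c)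
    (isCoh (rep_inv c)) d ((topologicalKrullDim_subspace_le S _).trans hd)
  refine ⟨MvPolynomial.aeval (fun _ => Polynomial.X) P, fun n => ?_⟩
  have h1 := hP (fun _ => n)
  rw [Groth.Agent.Fga.EulerLEAdd.eulerCharLE_eq_euler k S d hd] at h1
  have h2 : (Polynomial.aeval (n : ℚ)).comp (MvPolynomial.aeval (fun _ : Fin 1 => (Polynomial.X : Polynomial ℚ))) =
      MvPolynomial.aeval (fun _ => (n : ℚ)) := by
    ext i
    simp
  have h3 : Polynomial.eval (n : ℚ) (MvPolynomial.aeval (fun _ => Polynomial.X) P) =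
      MvPolynomial.eval (fun _ => (n : ℚ)) P := by
    have := congr($h2 P)
    rw [AlgHom.comp_apply, Polynomial.coe_aeval_eq_eval] at this
    exact this
  have hp := isInvertible_tensorPow (rep_inv b) n
  have hO : PicF.IsInvertible (Coh.structureModule S) := Groth.Agent.Fdesc.LocGen.isInvertible_structureModule
  have h5 : c * b ^ n = mk (CohB1.tensorMod (CohB1.tensorMod (CohB1.tensorPow (rep b) n) (Coh.structureModule S))
      (rep c)) (isInvertible_tensorMod (isInvertible_tensorMod hp hO) (rep_inv c)) := by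
    rw [← mk_mul_mk (isInvertible_tensorMod hp hO) (rep_inv c), ← mk_mul_mk hp hO, mk_tensorPow (rep_inv b) n, mk_rep,
      mk_rep, ← one_def, mul_one, mul_comm]
  rw [h3, ← h1, h5, chi_mk]
  rfl

/-- A polynomial with prescribed differences of step two. -/
theorem poly_key (P : Polynomial ℚ) (α β : ℚ) (h : ∀ n : ℕ, P.eval (n : ℚ) - P.eval ((n + 2 : ℕ) : ℚ) = α * n + β) :
    P.eval 1 - P.eval 0 = α / 4 - β / 2 := by
  let P0 : Polynomial ℚ := Polynomial.C (-α / 4) * Polynomial.X ^ 2 + Polynomial.C ((α - β) / 2) * Polynomial.X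
  have hP0 : ∀ x : ℚ, P0.eval x = (-α / 4) * x ^ 2 + ((α - β) / 2) * x := fun x => by simp [P0]
  let R := P - P0
  have hR : ∀ x : ℚ, R.eval x = P.eval x - P0.eval x := fun x => by simp [R]
  have h1 : ∀ n : ℕ, R.eval (n : ℚ) = R.eval ((n + 2 : ℕ) : ℚ) := by
    intro n
    have h2 := h n
    rw [hR, hR, hP0, hP0]
    push_cast at h2 ⊢
    linear_combination h2
  have h2 : ∀ n : ℕ, R.eval ((2 * n : ℕ) : ℚ) = R.eval 0 := by
    intro n
    induction n with
    | zero => simp
    | succ n ih =>
      rw [← ih, h1 (2 * n)]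
      rfl
  have h3 : R = Polynomial.C (R.eval 0) := by
    apply Polynomial.eq_of_infinite_eval_eq
    apply Set.infinite_of_injective_forall_mem (f := fun n : ℕ => ((2 * n : ℕ) : ℚ))
    · intro a b hab
      have hab' : ((2 * a : ℕ) : ℚ) = ((2 * b : ℕ) : ℚ) := hab
      have := Nat.cast_injective hab'
      omega
    · intro n
      rw [Set.mem_ofPred_eq, Polynomial.eval_C]
      exact h2 n
  have h4 : R.eval 1 = R.eval 0 := by
    rw [h3]
    simp
  rw [hR, hR, hP0, hP0] at h4
  linear_combination h4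

section Quot

variable {X S Z : Scheme.{u}} {π : X ⟶ S} {τ : X ⟶ X} {i : Z ⟶ X} (H : QData π τ i) [IsFinite π]
  [IsClosedImmersion i] (k : Type u) [Field k] [X.Over (Spec (CommRingCat.of k))] [S.Over (Spec (CommRingCat.of k))]
  [Z.Over (Spec (CommRingCat.of k))]
  (hk : π ≫ (S ↘ Spec (CommRingCat.of k)) = X ↘ Spec (CommRingCat.of k))
  (hik : i ≫ (X ↘ Spec (CommRingCat.of k)) = Z ↘ Spec (CommRingCat.of k))
  [IsProper (S ↘ Spec (CommRingCat.of k))] [IsProper (X ↘ Spec (CommRingCat.of k))]
  [IsProper (Z ↘ Spec (CommRingCat.of k))] [IsIntegral Z] (hdim : topologicalKrullDim Z ≤ 1)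

include hk hik hdim in
/-- Riemann-Roch on the quotient, in terms of `X` and `Z`. -/
theorem chi_quot (c : Pic S) :
    8 * chi k c = 4 * chi k (pull π c) - NumC.dg k (pull i (mk (ClSub.idealMod i.ker) H.hD)) +
      2 * NumC.dg k (pull i (pull π c)) + 2 * chi k (1 : Pic Z) := by
  obtain ⟨P, hP⟩ := exists_poly k c (bc H)
  set δ := mk (ClSub.idealMod i.ker) H.hD with hδ
  have h1 : ∀ n : ℕ, chi k (pull π (c * bc H ^ n)) = chi k (c * bc H ^ n) + chi k (c * bc H ^ (n + 1)) := by
    intro n
    rw [chi_add H k hk, mul_assoc, pow_succ]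
  have h2 : ∀ n : ℕ, chi k (pull π (c * bc H ^ n)) - chi k (pull π (c * bc H ^ (n + 1))) =
      NumC.dg k (pull i δ) * n + (NumC.dg k (pull i (pull π c)) + chi k (1 : Pic Z)) := by
    intro n
    have h3 := chi_eq i H.hD ⟨Iso.refl _⟩ k hik (pull π (c * bc H ^ n))
    have h4 : pull π (c * bc H ^ (n + 1)) = pull π (c * bc H ^ n) * δ := by
      rw [pow_succ, ← mul_assoc, map_mul, pull_bc H]
    have h5 : chi k (pull i (pull π (c * bc H ^ n))) =
        NumC.dg k (pull i δ) * n + NumC.dg k (pull i (pull π c)) + chi k (1 : Pic Z) := by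
      have h6 : NumC.dg k (pull i (pull π (c * bc H ^ n))) =
          NumC.dg k (pull i (pull π c)) + n * NumC.dg k (pull i δ) := by
        rw [map_mul, map_mul, map_pow, map_pow, pull_bc H, NumC.dg_mul k hdim, NumC.dg_pow k hdim]
      rw [NumC.dg] at h6
      linarith
    rw [h4]
    linarith
  have h3 := poly_key P (NumC.dg k (pull i δ)) (NumC.dg k (pull i (pull π c)) + chi k (1 : Pic Z)) (by
    intro n
    rw [← hP n, ← hP (n + 2)]
    have h4 := h1 n
    have h5 := h1 (n + 1)
    have h6 := h2 n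
    have h7 : chi k (c * bc H ^ n) - chi k (c * bc H ^ (n + 2)) =
      NumC.dg k (pull i δ) * n + (NumC.dg k (pull i (pull π c)) + chi k (1 : Pic Z)) := by
      rw [← h6, h4, h5]
      ring
    exact_mod_cast h7)
  have h4 := hP 0
  have h5 := hP 1
  have h6 := h1 0
  rw [pow_zero, mul_one] at h4 h6
  rw [zero_add] at h6
  rw [Nat.cast_zero] at h4
  rw [Nat.cast_one] at h5
  have h7 : (chi k (pull π c) : ℚ) = chi k c + chi k (c * bc H ^ 1) := by exact_mod_cast h6
  rw [← h4, ← h5] at h3
  have h8 : (8 : ℚ) * chi k c = 4 * chi k (pull π c) - NumC.dg k (pull i δ) +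
      2 * NumC.dg k (pull i (pull π c)) + 2 * chi k (1 : Pic Z) := by
    linarith
  exact_mod_cast h8

include H hk hik hdim in
/-- The projection formula. -/
theorem two_mul_int (c d : Pic S) :
    2 * (chi k (1 : Pic S) - chi k c - chi k d + chi k (c * d)) =
      chi k (1 : Pic X) - chi k (pull π c) - chi k (pull π d) + chi k (pull π c * pull π d) := by
  have h1 := chi_quot H k hk hik hdim 1
  have h2 := chi_quot H k hk hik hdim c
  have h3 := chi_quot H k hk hik hdim d
  have h4 := chi_quot H k hk hik hdim (c * d)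
  rw [map_one] at h1
  rw [map_mul, map_mul, NumC.dg_mul k hdim] at h4
  have h5 : NumC.dg k (pull i (1 : Pic X)) = 0 := by
    rw [map_one, NumC.dg, sub_self]
  linarith

end Quot

end K980.Snap
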